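import Groth.Agent.Fano.K475.QuartAlg
import Groth.Agent.Fano.K475.ConHom
import Groth.Agent.Fano.K475.RatClass

/-!
# Homomorphisms from the conormal sheaf of a smooth rational quartic curve to `O(-8)`

Node A3 of S16525: for a closed immersion `i : P^1 ⟶ X` of degree `4` into a cubic threefold, every homomorphism
`conormal i ⟶ O(-8)` vanishes (hence `H^1(N) = 0`).
* `exists_poly`: the classes of a form of degree `e` vanishing on the curve are given by a binary form;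
* `rel3`: relations with three terms;
* `hom_conormal_degenerate`: quartics in a hyperplane;
* `hom_conormal_quartic_normal`: rational normal quartics;
* `hom_conormal_quartic`: the general case.
-/

set_option autoImplicit false
set_option linter.unusedSectionVars false
universe u

open CategoryTheory AlgebraicGeometry Limits TopologicalSpace Opposite

namespace K475.QuartHom

open LefPen Groth.Agent.Lefpen.H705.HypIdeal Groth.Agent.Fano.K714.Rat
open K390.PnSec K330.FormSec K693.ConFam K475.ConForm K475.ConAlg K475.ConHom K475.QuartAlg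

variable {k : Type u} [Field k]

section Main

variable {X₀ : Scheme.{u}} (i₀ : CohB1.ProjSpace 1 k ⟶ X₀) (j₀ : X₀ ⟶ CohB1.ProjSpace 4 k)
  [IsClosedImmersion i₀] [IsClosedImmersion j₀] {d : ℕ} (c : Fin (d + 1) → Fin 5 → k)
  (hφ : GivenBy (i₀ ≫ j₀) (Twist.twistProjSpace 1 k (d : ℤ)) (fun l => glob (bform c l)))
  (hr : (i₀ ≫ j₀) ≫ CohB1.ProjSpace.toSpec 4 k = CohB1.ProjSpace.toSpec 1 k)
  {a : ℤ} (θ : Omega.conormal i₀ ⟶ Twist.twistProjSpace 1 k a)

include hφ hr in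
/-- The classes of a form vanishing on the curve are given by a binary form. -/
theorem exists_poly {e b : ℕ} {G : MvPolynomial (Fin 5) k} (hG : G.IsHomogeneous e) (h : sbc c G = 0)
    (h0 : a + (d * e : ℕ) = b) : ∃ p : MvPolynomial (Fin 2) k, p.IsHomogeneous b ∧ ∀ (j : Fin 5) (x : VV i₀ j₀ j),
      T i₀ j₀ θ j G x * al x (bform c j).1 ^ e = al x p := by
  obtain ⟨g, hg⟩ := exists_glue i₀ j₀ (bform c) hφ hr θ hG h h0
  obtain ⟨p, hp⟩ := K699.TwHom.exists_poly (n := 1) (R := k) (d := b) g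
  refine ⟨p.1, (MvPolynomial.mem_homogeneousSubmodule _ _).1 p.2, fun j x => ?_⟩
  rw [← hg j x]
  exact hp x.1 trivial

include hφ hr in
/-- Relations with three terms. -/
theorem rel3 (j : Fin 5) (x : VV i₀ j₀ j) {e₁ e₂ e₃ f₁ f₂ f₃ E : ℕ} (hE₁ : e₁ + f₁ = E) (hE₂ : e₂ + f₂ = E) (hE₃ : e₃ + f₃ = E)
    {A₁ A₂ A₃ G₁ G₂ G₃ : MvPolynomial (Fin 5) k} (hA₁ : A₁.IsHomogeneous e₁) (hA₂ : A₂.IsHomogeneous e₂)
    (hA₃ : A₃.IsHomogeneous e₃) (hG₁ : G₁.IsHomogeneous f₁) (hG₂ : G₂.IsHomogeneous f₂) (hG₃ : G₃.IsHomogeneous f₃)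
    (hs₁ : sbc c G₁ = 0) (hs₂ : sbc c G₂ = 0) (hs₃ : sbc c G₃ = 0) (h : A₁ * G₁ + A₂ * G₂ + A₃ * G₃ = 0)
    {p₁ p₂ p₃ : MvPolynomial (Fin 2) k}
    (hp₁ : ∀ (j : Fin 5) (x : VV i₀ j₀ j), T i₀ j₀ θ j G₁ x * al x (bform c j).1 ^ f₁ = al x p₁)
    (hp₂ : ∀ (j : Fin 5) (x : VV i₀ j₀ j), T i₀ j₀ θ j G₂ x * al x (bform c j).1 ^ f₂ = al x p₂)
    (hp₃ : ∀ (j : Fin 5) (x : VV i₀ j₀ j), T i₀ j₀ θ j G₃ x * al x (bform c j).1 ^ f₃ = al x p₃) :
    sbc c A₁ * p₁ + sbc c A₂ * p₂ + sbc c A₃ * p₃ = 0 := by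
  have r₁ := rho_dl i₀ j₀ (bform c) hφ hr hG₁ hs₁ j
  have r₂ := rho_dl i₀ j₀ (bform c) hφ hr hG₂ hs₂ j
  have r₃ := rho_dl i₀ j₀ (bform c) hφ hr hG₃ hs₃ j
  have q₁ : rho i₀ j₀ (chart 4 k j) (dl k j (A₁ * G₁)) = 0 := by rw [map_mul, map_mul, r₁, mul_zero]
  have q₂ : rho i₀ j₀ (chart 4 k j) (dl k j (A₂ * G₂)) = 0 := by rw [map_mul, map_mul, r₂, mul_zero]
  have q₃ : rho i₀ j₀ (chart 4 k j) (dl k j (A₃ * G₃)) = 0 := by rw [map_mul, map_mul, r₃, mul_zero]
  have hz := congrArg (fun G => T i₀ j₀ θ j G x) h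
  beta_reduce at hz
  rw [T_zero, T_add i₀ j₀ θ x (by rw [map_add, map_add, q₁, q₂, add_zero]) q₃, T_add i₀ j₀ θ x q₁ q₂,
    T_mul i₀ j₀ θ x _ r₁, T_mul i₀ j₀ θ x _ r₂, T_mul i₀ j₀ θ x _ r₃] at hz
  have c₁ : _ = al x (sbc c A₁) := chi_hom i₀ j₀ (bform c) hφ hr j x hA₁
  have c₂ : _ = al x (sbc c A₂) := chi_hom i₀ j₀ (bform c) hφ hr j x hA₂
  have c₃ : _ = al x (sbc c A₃) := chi_hom i₀ j₀ (bform c) hφ hr j x hA₃
  apply al_injective x
  have key : ∀ (E e f : ℕ), e + f = E → ∀ y z w : Loc x, (y * w ^ e) * (z * w ^ f) = w ^ E * (y * z) := by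
    rintro _ e f rfl y z w
    rw [pow_add]; ring
  rw [map_add, map_add, map_mul, map_mul, map_mul, ← c₁, ← c₂, ← c₃, ← hp₁ j x, ← hp₂ j x, ← hp₃ j x, map_zero,
    key _ _ _ hE₁, key _ _ _ hE₂, key _ _ _ hE₃, ← mul_add, ← mul_add, hz, mul_zero]

end Main

section Pol

variable {R : Type*} [CommRing R]

/-- The polar form of a binary cubic form. -/
def pol (a : Fin 4 → R) (x y w : Fin 2 → R) : R :=
  a 0 * (x 0 * y 0 * w 0) + a 1 * (x 0 * y 0 * w 1 + x 0 * y 1 * w 0 + x 1 * y 0 * w 0) +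
    a 2 * (x 0 * y 1 * w 1 + x 1 * y 0 * w 1 + x 1 * y 1 * w 0) + a 3 * (x 1 * y 1 * w 1)

theorem map_pol {S : Type*} [CommRing S] (φ : R →+* S) (a : Fin 4 → R) (x y w : Fin 2 → R) :
    φ (pol a x y w) = pol (fun i => φ (a i)) (fun i => φ (x i)) (fun i => φ (y i)) (fun i => φ (w i)) := by
  simp only [pol, map_add, map_mul]

theorem pol_smul (a : Fin 4 → R) (x y w : Fin 2 → R) (r s t : R) :
    pol a (fun i => r * x i) (fun i => s * y i) (fun i => t * w i) = r * s * t * pol a x y w := by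
  simp only [pol]
  ring

theorem isHomogeneous_pol {σ : Type*} {k : Type*} [Field k] (a : Fin 4 → k) {x y w : Fin 2 → MvPolynomial σ k}
    {p q r : ℕ} (hx : ∀ i, (x i).IsHomogeneous p) (hy : ∀ i, (y i).IsHomogeneous q)
    (hw : ∀ i, (w i).IsHomogeneous r) :
    (pol (fun i => MvPolynomial.C (a i)) x y w).IsHomogeneous (p + q + r) := by
  have h : ∀ i j l, (x i * y j * w l).IsHomogeneous (p + q + r) := fun i j l => ((hx i).mul (hy j)).mul (hw l)
  have hC : ∀ (m : k) {P : MvPolynomial σ k}, P.IsHomogeneous (p + q + r) →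
      (MvPolynomial.C m * P).IsHomogeneous (p + q + r) := fun m P hP => by
    simpa using (MvPolynomial.isHomogeneous_C σ m).mul hP
  exact (((hC _ (h 0 0 0)).add (hC _ (((h 0 0 1).add (h 0 1 0)).add (h 1 0 0)))).add
    (hC _ (((h 0 1 1).add (h 1 0 1)).add (h 1 1 0)))).add (hC _ (h 1 1 1))

end Pol

section Deg

variable (a b : Fin 4 → k) (z : Fin 4 → Fin 5 → k)

/-- Constants. -/
noncomputable abbrev cc (a : Fin 4 → k) : Fin 4 → MvPolynomial (Fin 5) k := fun i => MvPolynomial.C (a i)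

/-- The first two coordinates. -/
noncomputable abbrev uu : Fin 2 → MvPolynomial (Fin 5) k := ![lf (z 0), lf (z 1)]

/-- The last two coordinates. -/
noncomputable abbrev vv : Fin 2 → MvPolynomial (Fin 5) k := ![lf (z 2), lf (z 3)]

/-- The quadric. -/
noncomputable def Q : MvPolynomial (Fin 5) k := lf (z 0) * lf (z 3) - lf (z 1) * lf (z 2)

/-- The first cubic. -/
noncomputable def G0 : MvPolynomial (Fin 5) k := pol (cc b) (uu z) (uu z) (uu z) - pol (cc a) (uu z) (uu z) (vv z)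

/-- The second cubic. -/
noncomputable def G1 : MvPolynomial (Fin 5) k := pol (cc b) (uu z) (uu z) (vv z) - pol (cc a) (uu z) (vv z) (vv z)

/-- The third cubic. -/
noncomputable def G2 : MvPolynomial (Fin 5) k := pol (cc b) (uu z) (vv z) (vv z) - pol (cc a) (vv z) (vv z) (vv z)

/-- The coefficient of `Q` in the first relation. -/
noncomputable def L0 : MvPolynomial (Fin 5) k := pol (cc b) (uu z) (uu z) ![0, 1] - pol (cc a) (uu z) (vv z) ![0, 1]

/-- The coefficient of `Q` in the second relation. -/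
noncomputable def L1 : MvPolynomial (Fin 5) k := pol (cc b) (uu z) (vv z) ![0, 1] - pol (cc a) (vv z) (vv z) ![0, 1]

theorem rel_zero : lf (z 2) * G0 a b z + (-lf (z 0)) * G1 a b z + L0 a b z * Q z = 0 := by
  simp [G0, G1, L0, Q, pol]
  ring

theorem rel_one : lf (z 2) * G1 a b z + (-lf (z 0)) * G2 a b z + L1 a b z * Q z = 0 := by
  simp [G1, G2, L1, Q, pol]
  ring

theorem uu_hom (i : Fin 2) : (uu z i).IsHomogeneous 1 := by
  fin_cases i
  exacts [isHomogeneous_lf _, isHomogeneous_lf _]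

theorem vv_hom (i : Fin 2) : (vv z i).IsHomogeneous 1 := by
  fin_cases i
  exacts [isHomogeneous_lf _, isHomogeneous_lf _]

theorem ee_hom (i : Fin 2) : ((![0, 1] : Fin 2 → MvPolynomial (Fin 5) k) i).IsHomogeneous 0 := by
  fin_cases i
  exacts [MvPolynomial.isHomogeneous_zero _ _ _, MvPolynomial.isHomogeneous_one _ _]

theorem G0_hom : (G0 a b z).IsHomogeneous 3 :=
  (isHomogeneous_pol b (uu_hom z) (uu_hom z) (uu_hom z)).sub (isHomogeneous_pol a (uu_hom z) (uu_hom z) (vv_hom z))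

theorem G1_hom : (G1 a b z).IsHomogeneous 3 :=
  (isHomogeneous_pol b (uu_hom z) (uu_hom z) (vv_hom z)).sub (isHomogeneous_pol a (uu_hom z) (vv_hom z) (vv_hom z))

theorem G2_hom : (G2 a b z).IsHomogeneous 3 :=
  (isHomogeneous_pol b (uu_hom z) (vv_hom z) (vv_hom z)).sub (isHomogeneous_pol a (vv_hom z) (vv_hom z) (vv_hom z))

theorem L0_hom : (L0 a b z).IsHomogeneous 2 :=
  (isHomogeneous_pol b (uu_hom z) (uu_hom z) ee_hom).sub (isHomogeneous_pol a (uu_hom z) (vv_hom z) ee_hom)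

theorem L1_hom : (L1 a b z).IsHomogeneous 2 :=
  (isHomogeneous_pol b (uu_hom z) (vv_hom z) ee_hom).sub (isHomogeneous_pol a (vv_hom z) (vv_hom z) ee_hom)

theorem Q_hom : (Q z).IsHomogeneous 2 :=
  ((isHomogeneous_lf _).mul (isHomogeneous_lf _)).sub ((isHomogeneous_lf _).mul (isHomogeneous_lf _))

/-- The polar forms in two variables. -/
noncomputable def A1 (a : Fin 4 → k) : MvPolynomial (Fin 2) k :=
  MvPolynomial.C (a 1) * MvPolynomial.X 0 ^ 2 + MvPolynomial.C (2 * a 2) * (MvPolynomial.X 0 * MvPolynomial.X 1) +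
    MvPolynomial.C (a 3) * MvPolynomial.X 1 ^ 2

/-- The polar forms in two variables. -/
noncomputable def A0 (a : Fin 4 → k) : MvPolynomial (Fin 2) k :=
  MvPolynomial.C (a 0) * MvPolynomial.X 0 ^ 2 + MvPolynomial.C (2 * a 1) * (MvPolynomial.X 0 * MvPolynomial.X 1) +
    MvPolynomial.C (a 2) * MvPolynomial.X 1 ^ 2

theorem C2 : (MvPolynomial.C 2 : MvPolynomial (Fin 2) k) = 2 := map_ofNat _ 2

theorem C3 : (MvPolynomial.C 3 : MvPolynomial (Fin 2) k) = 3 := map_ofNat _ 3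

theorem cf_eq : cf a = MvPolynomial.X 0 * A0 a + MvPolynomial.X 1 * A1 a := by
  simp [cf, A0, A1, C2, C3]
  ring

variable {a b z} {c : Fin (4 + 1) → Fin 5 → k}
  (hz : ∀ i, sbc c (lf (z i)) = W a b i)

theorem sbc_C (x : k) : sbc c (MvPolynomial.C x) = MvPolynomial.C x := MvPolynomial.eval₂_C _ _ _

theorem sbc_pol (a : Fin 4 → k) (x y w : Fin 2 → MvPolynomial (Fin 5) k) :
    sbc c (pol (cc a) x y w) =
      pol (fun i => MvPolynomial.C (a i)) (fun i => sbc c (x i)) (fun i => sbc c (y i)) (fun i => sbc c (w i)) := by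
  have h := map_pol (MvPolynomial.eval₂Hom MvPolynomial.C (fun l => (bform c l).1)) (cc a) x y w
  have h2 : ∀ i, MvPolynomial.eval₂Hom MvPolynomial.C (fun l => (bform c l).1) (cc a i) = MvPolynomial.C (a i) :=
    fun i => sbc_C _
  simp only [h2] at h
  exact h

include hz in
theorem sbc_uu (i : Fin 2) : sbc c (uu z i) = cf a * MvPolynomial.X i := by
  fin_cases i
  · exact (hz 0).trans (mul_comm _ _)
  · exact (hz 1).trans (mul_comm _ _)

include hz in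
theorem sbc_vv (i : Fin 2) : sbc c (vv z i) = cf b * MvPolynomial.X i := by
  fin_cases i
  · exact (hz 2).trans (mul_comm _ _)
  · exact (hz 3).trans (mul_comm _ _)

theorem sbc_ee (i : Fin 2) : sbc c ((![0, 1] : Fin 2 → MvPolynomial (Fin 5) k) i) = 1 * ![0, 1] i := by
  fin_cases i
  · exact (MvPolynomial.eval₂_zero _ _).trans (by simp)
  · exact (MvPolynomial.eval₂_one _ _).trans (by simp)

theorem pol_XXX (a : Fin 4 → k) : pol (fun i => MvPolynomial.C (a i)) MvPolynomial.X MvPolynomial.X MvPolynomial.X =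
    cf a := by
  simp [pol, cf, C3]
  ring

theorem pol_XXe (a : Fin 4 → k) : pol (fun i => MvPolynomial.C (a i)) MvPolynomial.X MvPolynomial.X ![0, 1] =
    A1 a := by
  simp [pol, A1, C2]
  ring

include hz in
theorem sbc_Q : sbc c (Q z) = 0 := by
  rw [Q, sbc_sub, sbc_mul, sbc_mul, hz, hz, hz, hz]
  simp [W]
  ring

include hz in
theorem sbc_G0 : sbc c (G0 a b z) = 0 := by
  rw [G0, sbc_sub, sbc_pol, sbc_pol]
  simp only [sbc_uu hz, sbc_vv hz, pol_smul]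
  rw [pol_XXX, pol_XXX]
  ring

include hz in
theorem sbc_G1 : sbc c (G1 a b z) = 0 := by
  rw [G1, sbc_sub, sbc_pol, sbc_pol]
  simp only [sbc_uu hz, sbc_vv hz, pol_smul]
  rw [pol_XXX, pol_XXX]
  ring

include hz in
theorem sbc_G2 : sbc c (G2 a b z) = 0 := by
  rw [G2, sbc_sub, sbc_pol, sbc_pol]
  simp only [sbc_uu hz, sbc_vv hz, pol_smul]
  rw [pol_XXX, pol_XXX]
  ring

include hz in
theorem sbc_L0 : sbc c (L0 a b z) = cf a * (cf a * A1 b - cf b * A1 a) := by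
  rw [L0, sbc_sub, sbc_pol, sbc_pol]
  simp only [sbc_uu hz, sbc_vv hz, sbc_ee, pol_smul]
  rw [pol_XXe, pol_XXe]
  ring

include hz in
theorem sbc_L1 : sbc c (L1 a b z) = cf b * (cf a * A1 b - cf b * A1 a) := by
  rw [L1, sbc_sub, sbc_pol, sbc_pol]
  simp only [sbc_uu hz, sbc_vv hz, sbc_ee, pol_smul]
  rw [pol_XXe, pol_XXe]
  ring

theorem eval₂_cf {S : Type*} [CommRing S] (κ : k →+* S) (x : Fin 2 → S) (a : Fin 4 → k) :
    MvPolynomial.eval₂ κ x (cf a) = pol (fun i => κ (a i)) x x x := by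
  rw [← MvPolynomial.coe_eval₂Hom, ← pol_XXX, map_pol]
  simp only [MvPolynomial.eval₂Hom_C, MvPolynomial.eval₂Hom_X']

/-- The ideal generated by the equations of the span, the quadric and the first cubic. -/
def Gen (a b : Fin 4 → k) (z v : Fin 4 → Fin 5 → k) : Set (MvPolynomial (Fin 5) k) :=
  (Set.range fun l : Fin 5 => (MvPolynomial.X l - ∑ i, MvPolynomial.C (v i l) * lf (z i) : MvPolynomial (Fin 5) k)) ∪
    {Q z, G0 a b z}

/-- Generically, the curve is defined by the equations `Gen`. -/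
theorem pow_mul_mem {v : Fin 4 → Fin 5 → k} (hv : ∀ l, (bform (d := 4) c l).1 = ∑ i, MvPolynomial.C (v i l) * W a b i)
    {e : ℕ} {G : MvPolynomial (Fin 5) k} (hG : G.IsHomogeneous e) (h : sbc c G = 0) :
    (lf (z 0) * pol (cc a) (uu z) (uu z) (uu z)) ^ e * G ∈ Ideal.span (Gen a b z v) := by
  rw [← Ideal.Quotient.eq_zero_iff_mem]
  let π := Ideal.Quotient.mk (Ideal.span (Gen a b z v))
  have hπ : ∀ y ∈ Gen a b z v, π y = 0 := fun y hy => Ideal.Quotient.eq_zero_iff_mem.2 (Ideal.subset_span hy)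
  change π _ = 0
  let κ : k →+* MvPolynomial (Fin 5) k ⧸ Ideal.span (Gen a b z v) := π.comp MvPolynomial.C
  let ζ : Fin 4 → MvPolynomial (Fin 5) k ⧸ Ideal.span (Gen a b z v) := fun i => π (lf (z i))
  let u : Fin 2 → MvPolynomial (Fin 5) k ⧸ Ideal.span (Gen a b z v) := ![ζ 0, ζ 1]
  have hu : (fun i => π (uu z i)) = u := by
    funext i
    fin_cases i <;> rfl
  have hvv : (fun i => π (vv z i)) = ![ζ 2, ζ 3] := by
    funext i
    fin_cases i <;> rfl
  let α := pol (fun i => κ (a i)) u u u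
  let β := pol (fun i => κ (b i)) u u u
  have hα : π (pol (cc a) (uu z) (uu z) (uu z)) = α := by
    rw [map_pol, hu]
    rfl
  have hQ : ζ 0 * ζ 3 = ζ 1 * ζ 2 := by
    have h1 := hπ (Q z) (Or.inr (Or.inl rfl))
    rw [Q, map_sub, map_mul, map_mul, sub_eq_zero] at h1
    exact h1
  have hG0 : β = pol (fun i => κ (a i)) u u ![ζ 2, ζ 3] := by
    have h1 := hπ (G0 a b z) (Or.inr (Or.inr rfl))
    rw [G0, map_sub, map_pol, map_pol, hu, hvv, sub_eq_zero] at h1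
    exact h1
  have h2 : ζ 0 * β = ζ 2 * α := by
    have h3 : ζ 0 * pol (fun i => κ (a i)) u u ![ζ 2, ζ 3] - ζ 2 * α =
        (ζ 0 * ζ 3 - ζ 1 * ζ 2) * (κ (a 1) * (u 0 * u 0) + 2 * κ (a 2) * (u 0 * u 1) + κ (a 3) * (u 1 * u 1)) := by
      simp [α, pol, u]
      ring
    rw [hQ, sub_self, zero_mul, sub_eq_zero] at h3
    rw [hG0, h3]
  have hX : ∀ l, π (MvPolynomial.X l) = ∑ i, κ (v i l) * ζ i := by
    intro l
    have h1 := hπ _ (Or.inl ⟨l, rfl⟩)
    rw [map_sub, sub_eq_zero, map_sum] at h1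
    rw [h1]
    exact Finset.sum_congr rfl fun i _ => map_mul π _ _
  let w : Fin 5 → MvPolynomial (Fin 5) k ⧸ Ideal.span (Gen a b z v) :=
    fun l => MvPolynomial.eval₂ κ u (bform (d := 4) c l).1
  have hW : ∀ i, ζ 0 * MvPolynomial.eval₂ κ u (W a b i) = ζ 0 * α * ζ i := by
    intro i
    have e0 : MvPolynomial.eval₂ κ u (MvPolynomial.X 0) = ζ 0 := MvPolynomial.eval₂_X _ _ _
    have e1 : MvPolynomial.eval₂ κ u (MvPolynomial.X 1) = ζ 1 := MvPolynomial.eval₂_X _ _ _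
    fin_cases i
    · simp only [W, Fin.zero_eta, Matrix.cons_val_zero, MvPolynomial.eval₂_mul, eval₂_cf, e0]
      change ζ 0 * (ζ 0 * α) = _
      ring
    · simp only [W, Fin.mk_one, Matrix.cons_val_one, Matrix.cons_val_zero, MvPolynomial.eval₂_mul, eval₂_cf, e1]
      change ζ 0 * (ζ 1 * α) = _
      ring
    · simp only [W, Fin.reduceFinMk, Matrix.cons_val, MvPolynomial.eval₂_mul, eval₂_cf, e0]
      change ζ 0 * (ζ 0 * β) = _
      linear_combination ζ 0 * h2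
    · simp only [W, Fin.reduceFinMk, Matrix.cons_val, MvPolynomial.eval₂_mul, eval₂_cf, e1]
      change ζ 0 * (ζ 1 * β) = _
      linear_combination ζ 1 * h2 - α * hQ
  have hw : (fun l => ζ 0 * w l) = fun l => ζ 0 * α * π (MvPolynomial.X l) := by
    funext l
    have h1 : w l = ∑ i, κ (v i l) * MvPolynomial.eval₂ κ u (W a b i) := by
      change MvPolynomial.eval₂ κ u (bform (d := 4) c l).1 = _
      rw [hv l, ← MvPolynomial.coe_eval₂Hom, map_sum]
      refine Finset.sum_congr rfl fun i _ => ?_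
      rw [map_mul, MvPolynomial.eval₂Hom_C]
    rw [h1, hX, Finset.mul_sum, Finset.mul_sum]
    refine Finset.sum_congr rfl fun i _ => ?_
    linear_combination κ (v i l) * hW i
  have h5 : MvPolynomial.eval₂ κ w G = 0 := by
    have h6 := MvPolynomial.hom_eval₂ G MvPolynomial.C (MvPolynomial.eval₂Hom κ u) (fun l => (bform (d := 4) c l).1)
    have h7 : MvPolynomial.eval₂ MvPolynomial.C (fun l => (bform (d := 4) c l).1) G = 0 := h
    rw [h7, map_zero] at h6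
    have h8 : (MvPolynomial.eval₂Hom κ u).comp MvPolynomial.C = κ := by
      ext y
      simp
    rw [h8] at h6
    exact h6.symm
  have h6 : MvPolynomial.eval₂ κ (fun l => π (MvPolynomial.X l)) G = π G := by
    have h7 := MvPolynomial.hom_eval₂ G MvPolynomial.C π MvPolynomial.X
    rw [MvPolynomial.eval₂_eta] at h7
    exact h7.symm
  have h7 := K475.PtCoord.eval₂_smul_of_homogeneous κ w (ζ 0) hG
  have h8 := K475.PtCoord.eval₂_smul_of_homogeneous κ (fun l => π (MvPolynomial.X l)) (ζ 0 * α) hG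
  rw [h5, mul_zero, hw] at h7
  rw [h7, h6] at h8
  rw [map_mul, map_pow, map_mul, hα]
  exact h8.symm

end Deg

section Div

theorem eq_zero_of_dvd {P F : MvPolynomial (Fin 2) k} {p f : ℕ} (hP : P.IsHomogeneous p) (hF : F.IsHomogeneous f)
    (hF0 : F ≠ 0) (hpf : p < f) (h : F ∣ P) : P = 0 := by
  by_contra hP0
  obtain ⟨q, hq⟩ := h
  have h3 := hP.totalDegree hP0
  have hq0 : q ≠ 0 := by
    rintro rfl
    exact hP0 (by rw [hq, mul_zero])
  rw [hq, MvPolynomial.totalDegree_mul_of_isDomain hF0 hq0, hF.totalDegree hF0] at h3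
  omega

theorem isHomogeneous_of_mul {F u : MvPolynomial (Fin 2) k} {p f : ℕ} (h : (F * u).IsHomogeneous (f + p))
    (hF : F.IsHomogeneous f) (hF0 : F ≠ 0) : u.IsHomogeneous p := by
  by_cases hu : u = 0
  · rw [hu]
    exact MvPolynomial.isHomogeneous_zero _ _ _
  · obtain ⟨a, b, hab, ha, hb⟩ := K713.HomFactor.exists_isHomogeneous h (mul_ne_zero hF0 hu)
    have h1 : a = f := ha.inj_right hF hF0
    have h2 : b = p := by omega
    exact h2 ▸ hb

theorem A1_hom (a : Fin 4 → k) : (A1 a).IsHomogeneous 2 := by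
  have h0 := MvPolynomial.isHomogeneous_X k (0 : Fin 2)
  have h1 := MvPolynomial.isHomogeneous_X k (1 : Fin 2)
  refine ((?_ : MvPolynomial.IsHomogeneous _ 2).add ?_).add ?_
  · simpa using (MvPolynomial.isHomogeneous_C (Fin 2) (a 1)).mul (h0.pow 2)
  · simpa using (MvPolynomial.isHomogeneous_C (Fin 2) (2 * a 2)).mul (h0.mul h1)
  · simpa using (MvPolynomial.isHomogeneous_C (Fin 2) (a 3)).mul (h1.pow 2)

theorem A0_hom (a : Fin 4 → k) : (A0 a).IsHomogeneous 2 := by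
  have h0 := MvPolynomial.isHomogeneous_X k (0 : Fin 2)
  have h1 := MvPolynomial.isHomogeneous_X k (1 : Fin 2)
  refine ((?_ : MvPolynomial.IsHomogeneous _ 2).add ?_).add ?_
  · simpa using (MvPolynomial.isHomogeneous_C (Fin 2) (a 0)).mul (h0.pow 2)
  · simpa using (MvPolynomial.isHomogeneous_C (Fin 2) (2 * a 1)).mul (h0.mul h1)
  · simpa using (MvPolynomial.isHomogeneous_C (Fin 2) (a 2)).mul (h1.pow 2)

/-- The algebraic core: the two relations force `κ = 0` and `g0 = 0`. -/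
theorem core [CharZero k] {a b : Fin 4 → k} (hrp : IsRelPrime (cf a) (cf b)) (ha : cf a ≠ 0) (hb : cf b ≠ 0)
    {g0 g1 g2 : MvPolynomial (Fin 2) k} (hg0 : g0.IsHomogeneous 4) {κ : k}
    (e0 : MvPolynomial.X 0 * cf b * g0 - MvPolynomial.X 0 * cf a * g1 +
      cf a * (cf a * A1 b - cf b * A1 a) * MvPolynomial.C κ = 0)
    (e1 : MvPolynomial.X 0 * cf b * g1 - MvPolynomial.X 0 * cf a * g2 +
      cf b * (cf a * A1 b - cf b * A1 a) * MvPolynomial.C κ = 0) : κ = 0 ∧ g0 = 0 := by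
  have hX0 : (MvPolynomial.X 0 : MvPolynomial (Fin 2) k) ≠ 0 := MvPolynomial.X_ne_zero _
  have ea := cf_eq a
  have eb := cf_eq b
  have f0 : cf b * g0 - cf a * g1 + cf a * (A0 a * A1 b - A1 a * A0 b) * MvPolynomial.C κ = 0 := by
    apply mul_left_cancel₀ hX0
    rw [mul_zero, ← e0]
    linear_combination cf a * A1 a * MvPolynomial.C κ * eb - cf a * A1 b * MvPolynomial.C κ * ea
  have f1 : cf b * g1 - cf a * g2 + cf b * (A0 a * A1 b - A1 a * A0 b) * MvPolynomial.C κ = 0 := by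
    apply mul_left_cancel₀ hX0
    rw [mul_zero, ← e1]
    linear_combination cf b * A1 a * MvPolynomial.C κ * eb - cf b * A1 b * MvPolynomial.C κ * ea
  obtain ⟨u0, hu0⟩ : cf a ∣ g0 := hrp.dvd_of_dvd_mul_left
    ⟨g1 - (A0 a * A1 b - A1 a * A0 b) * MvPolynomial.C κ, by linear_combination f0⟩
  obtain ⟨u2, hu2⟩ : cf b ∣ g2 := hrp.symm.dvd_of_dvd_mul_left
    ⟨g1 + (A0 a * A1 b - A1 a * A0 b) * MvPolynomial.C κ, by linear_combination -f1⟩
  have hu0h : u0.IsHomogeneous 1 := isHomogeneous_of_mul (f := 3) (by rw [← hu0]; exact hg0) (isHomogeneous_cf a) ha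
  have h0 : cf b * u0 - g1 + (A0 a * A1 b - A1 a * A0 b) * MvPolynomial.C κ = 0 := by
    apply mul_left_cancel₀ ha
    rw [mul_zero, ← f0, hu0]
    ring
  have h1 : g1 - cf a * u2 + (A0 a * A1 b - A1 a * A0 b) * MvPolynomial.C κ = 0 := by
    apply mul_left_cancel₀ hb
    rw [mul_zero, ← f1, hu2]
    ring
  have h2C : ∀ {P : MvPolynomial (Fin 2) k}, P.IsHomogeneous 2 →
      (2 * MvPolynomial.C κ * P).IsHomogeneous 2 := fun {P} hP => by
    have := (MvPolynomial.isHomogeneous_C (Fin 2) (2 * κ)).mul hP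
    rw [zero_add, map_mul, C2] at this
    exact this
  have v0 : MvPolynomial.X 0 * u0 - 2 * MvPolynomial.C κ * A1 a = 0 := by
    refine eq_zero_of_dvd (p := 2) (f := 3) (((MvPolynomial.isHomogeneous_X k (0 : Fin 2)).mul hu0h).sub
      (h2C (A1_hom a))) (isHomogeneous_cf a) ha (by norm_num) ?_
    refine hrp.dvd_of_dvd_mul_left ⟨MvPolynomial.X 0 * u2 - 2 * MvPolynomial.C κ * A1 b, ?_⟩
    linear_combination MvPolynomial.X 0 * h0 + MvPolynomial.X 0 * h1 - 2 * MvPolynomial.C κ * A1 a * eb +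
      2 * MvPolynomial.C κ * A1 b * ea
  have v1 : MvPolynomial.X 1 * u0 + 2 * MvPolynomial.C κ * A0 a = 0 := by
    refine eq_zero_of_dvd (p := 2) (f := 3) (((MvPolynomial.isHomogeneous_X k (1 : Fin 2)).mul hu0h).add
      (h2C (A0_hom a))) (isHomogeneous_cf a) ha (by norm_num) ?_
    refine hrp.dvd_of_dvd_mul_left ⟨MvPolynomial.X 1 * u2 + 2 * MvPolynomial.C κ * A0 b, ?_⟩
    linear_combination MvPolynomial.X 1 * h0 + MvPolynomial.X 1 * h1 + 2 * MvPolynomial.C κ * A0 a * eb -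
      2 * MvPolynomial.C κ * A0 b * ea
  have h3 : 2 * MvPolynomial.C κ * cf a = 0 := by
    linear_combination 2 * MvPolynomial.C κ * ea + MvPolynomial.X 0 * v1 - MvPolynomial.X 1 * v0
  have h4 : (2 * MvPolynomial.C κ : MvPolynomial (Fin 2) k) = 0 := (mul_eq_zero.1 h3).resolve_right ha
  have h5 : κ = 0 := by
    have h6 : (2 : k) * κ = 0 := by
      apply MvPolynomial.C_injective (Fin 2) k
      rw [map_mul, C2, h4, map_zero]
    exact (mul_eq_zero.1 h6).resolve_left two_ne_zero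
  refine ⟨h5, ?_⟩
  rw [h5, map_zero, mul_zero, zero_mul, sub_zero] at v0
  rw [hu0, (mul_eq_zero.1 v0).resolve_left hX0, mul_zero]

end Div

section Degenerate

variable {X₀ : Scheme.{u}} (i₀ : CohB1.ProjSpace 1 k ⟶ X₀) (j₀ : X₀ ⟶ CohB1.ProjSpace 4 k)
  [IsClosedImmersion i₀] [IsClosedImmersion j₀] (c : Fin (4 + 1) → Fin 5 → k)
  (hφ : GivenBy (i₀ ≫ j₀) (Twist.twistProjSpace 1 k ((4 : ℕ) : ℤ)) (fun l => glob (bform c l)))
  (hr : (i₀ ≫ j₀) ≫ CohB1.ProjSpace.toSpec 4 k = CohB1.ProjSpace.toSpec 1 k)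

include hφ hr in
/-- Degenerate quartics. -/
theorem hom_conormal_degenerate [IsAlgClosed k] [CharZero k] (hdep : ¬ LinearIndependent k c)
    (θ : Omega.conormal i₀ ⟶ Twist.twistProjSpace 1 k (-8)) : θ = 0 := by
  have : Mono (i₀ ≫ j₀) := inferInstance
  obtain ⟨a, b, z, v, hrp, ha0, hb0, hz, hv⟩ := exists_scroll (K475.RatClass.sep hr hφ) (K475.RatClass.nz hr hφ) hdep
  have hz : ∀ i, sbc c (lf (z i)) = W a b i := hz
  obtain ⟨κ, hκ⟩ := T_const i₀ j₀ c hφ hr θ (Q_hom z) (sbc_Q hz) (by norm_num)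
  obtain ⟨g0, hg0h, hg0⟩ := exists_poly i₀ j₀ c hφ hr θ (b := 4) (G0_hom a b z) (sbc_G0 hz) (by norm_num)
  obtain ⟨g1, hg1h, hg1⟩ := exists_poly i₀ j₀ c hφ hr θ (b := 4) (G1_hom a b z) (sbc_G1 hz) (by norm_num)
  obtain ⟨g2, hg2h, hg2⟩ := exists_poly i₀ j₀ c hφ hr θ (b := 4) (G2_hom a b z) (sbc_G2 hz) (by norm_num)
  refine eq_zero_of_T i₀ j₀ (bform c) hφ hr θ fun e G hG j x => ?_
  have hGh : G.1.IsHomogeneous e := (MvPolynomial.mem_homogeneousSubmodule _ _).1 G.2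
  have hneg : sbc c (-lf (z 0)) = - sbc c (lf (z 0)) :=
    map_neg (MvPolynomial.eval₂Hom MvPolynomial.C (fun l => (bform c l).1)) _
  have e0 := rel3 i₀ j₀ c hφ hr θ j x (E := 4) (e₁ := 1) (e₂ := 1) (e₃ := 2) rfl rfl rfl (isHomogeneous_lf (z 2))
    (isHomogeneous_lf (z 0)).neg (L0_hom a b z) (G0_hom a b z) (G1_hom a b z) (Q_hom z) (sbc_G0 hz) (sbc_G1 hz)
    (sbc_Q hz) (rel_zero a b z) hg0 hg1 hκ
  have e1 := rel3 i₀ j₀ c hφ hr θ j x (E := 4) (e₁ := 1) (e₂ := 1) (e₃ := 2) rfl rfl rfl (isHomogeneous_lf (z 2))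
    (isHomogeneous_lf (z 0)).neg (L1_hom a b z) (G1_hom a b z) (G2_hom a b z) (Q_hom z) (sbc_G1 hz) (sbc_G2 hz)
    (sbc_Q hz) (rel_one a b z) hg1 hg2 hκ
  have w0 : W a b 0 = MvPolynomial.X 0 * cf a := rfl
  have w2 : W a b 2 = MvPolynomial.X 0 * cf b := rfl
  rw [hneg, hz, hz, sbc_L0 hz, w0, w2] at e0
  rw [hneg, hz, hz, sbc_L1 hz, w0, w2] at e1
  obtain ⟨hκ0, hg00⟩ := core (g1 := g1) (g2 := g2) hrp ha0 hb0 hg0h (by linear_combination e0) (by linear_combination e1)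
  have hal : al x (bform c j).1 ≠ 0 := al_ne_zero i₀ j₀ (bform c) hφ j x
  have tQ : T i₀ j₀ θ j (Q z) x = 0 := by
    have h := hκ j x
    rw [hκ0, map_zero, map_zero] at h
    exact (mul_eq_zero.1 h).resolve_right (pow_ne_zero _ hal)
  have tG : T i₀ j₀ θ j (G0 a b z) x = 0 := by
    have h := hg0 j x
    rw [hg00, map_zero] at h
    exact (mul_eq_zero.1 h).resolve_right (pow_ne_zero _ hal)
  have h1 := (T_span i₀ j₀ θ (S := Gen a b z v) (j := j) (x := x) (by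
    rintro y (⟨l, rfl⟩ | rfl | rfl)
    · have hh : (MvPolynomial.X l - ∑ i, MvPolynomial.C (v i l) * lf (z i) : MvPolynomial (Fin 5) k).IsHomogeneous 1 :=
        (MvPolynomial.isHomogeneous_X k l).sub (MvPolynomial.IsHomogeneous.sum _ _ _ fun m _ => by
          simpa using (MvPolynomial.isHomogeneous_C (Fin 5) (v m l)).mul (isHomogeneous_lf (z m)))
      have hs : sbc c (MvPolynomial.X l - ∑ i, MvPolynomial.C (v i l) * lf (z i)) = 0 := by
        have h2 : sbc c (MvPolynomial.X l) = (bform c l).1 := MvPolynomial.eval₂_X _ _ _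
        have h3 : sbc c (∑ i, MvPolynomial.C (v i l) * lf (z i)) = ∑ i, MvPolynomial.C (v i l) * W a b i := by
          change MvPolynomial.eval₂Hom _ _ _ = _
          rw [map_sum]
          refine Finset.sum_congr rfl fun m _ => ?_
          rw [map_mul, MvPolynomial.eval₂Hom_C, ← hz m]
          rfl
        rw [sbc_sub, h2, h3, hv l, sub_self]
      exact ⟨rho_dl i₀ j₀ (bform c) hφ hr hh hs j, T_neg i₀ j₀ c hφ hr θ hh hs (by norm_num) j x⟩
    · exact ⟨rho_dl i₀ j₀ (bform c) hφ hr (Q_hom z) (sbc_Q hz) j, tQ⟩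
    · exact ⟨rho_dl i₀ j₀ (bform c) hφ hr (G0_hom a b z) (sbc_G0 hz) j, tG⟩) (pow_mul_mem hv hGh hG)).2
  rw [T_mul i₀ j₀ θ x _ (rho_dl i₀ j₀ (bform c) hφ hr hGh hG j), map_pow, map_mul] at h1
  refine (mul_eq_zero.1 h1).resolve_left (pow_ne_zero _ (mul_ne_zero ?_ ?_))
  · intro h
    have h2 := chi_hom i₀ j₀ (bform c) hφ hr j x (isHomogeneous_lf (z 0))
    rw [h, zero_mul] at h2
    have h3 : W a b 0 = 0 := (hz 0).symm.trans (al_injective x (h2.symm.trans (map_zero _).symm))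
    exact mul_ne_zero (MvPolynomial.X_ne_zero _) ha0 h3
  · intro h
    have h2 := chi_hom i₀ j₀ (bform c) hφ hr j x (isHomogeneous_pol a (uu_hom z) (uu_hom z) (uu_hom z))
    rw [h, zero_mul] at h2
    have h3 : sbc c (pol (cc a) (uu z) (uu z) (uu z)) = 0 := al_injective x (h2.symm.trans (map_zero _).symm)
    rw [sbc_pol] at h3
    simp only [sbc_uu hz, pol_smul] at h3
    rw [pol_XXX] at h3
    exact mul_ne_zero (mul_ne_zero (mul_ne_zero ha0 ha0) ha0) ha0 h3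

include hφ hr in
/-- Rational normal quartics. -/
theorem hom_conormal_quartic_normal [CharZero k] (hc : LinearIndependent k c)
    (θ : Omega.conormal i₀ ⟶ Twist.twistProjSpace 1 k (-8)) : θ = 0 := by
  obtain ⟨b, hb⟩ := exists_dual (d := 4) hc
  let L : Fin 5 → MvPolynomial (Fin 5) k := fun m => lf (b m)
  have hL : ∀ m, (L m).IsHomogeneous 1 := fun m => isHomogeneous_lf (b m)
  have hm : ∀ m1 m2 m3 m4 : Fin 5, (L m1 * L m2 - L m3 * L m4).IsHomogeneous 2 := fun m1 m2 m3 m4 =>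
    ((hL m1).mul (hL m2)).sub ((hL m3).mul (hL m4))
  have e0 : sbc c (L 0) = MvPolynomial.X 0 ^ 4 := by
    have := sbc_lf hb 0
    simpa using this
  have e1 : sbc c (L 1) = MvPolynomial.X 0 ^ 3 * MvPolynomial.X 1 := by
    have := sbc_lf hb 1
    simpa using this
  have e2 : sbc c (L 2) = MvPolynomial.X 0 ^ 2 * MvPolynomial.X 1 ^ 2 := by
    have := sbc_lf hb 2
    simpa using this
  have e3 : sbc c (L 3) = MvPolynomial.X 0 * MvPolynomial.X 1 ^ 3 := by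
    have := sbc_lf hb 3
    simpa using this
  have e4 : sbc c (L 4) = MvPolynomial.X 1 ^ 4 := by
    have := sbc_lf hb 4
    simpa using this
  have s01 : sbc c (L 0 * L 2 - L 1 * L 1) = 0 := by
    rw [sbc_sub, sbc_mul, sbc_mul, e0, e1, e2]; ring
  have s02 : sbc c (L 0 * L 3 - L 1 * L 2) = 0 := by
    rw [sbc_sub, sbc_mul, sbc_mul, e0, e1, e2, e3]; ring
  have s03 : sbc c (L 0 * L 4 - L 1 * L 3) = 0 := by
    rw [sbc_sub, sbc_mul, sbc_mul, e0, e1, e3, e4]; ring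
  have s12 : sbc c (L 1 * L 3 - L 2 * L 2) = 0 := by
    rw [sbc_sub, sbc_mul, sbc_mul, e1, e2, e3]; ring
  have s13 : sbc c (L 1 * L 4 - L 2 * L 3) = 0 := by
    rw [sbc_sub, sbc_mul, sbc_mul, e1, e2, e3, e4]; ring
  obtain ⟨κ01, h01⟩ := T_const i₀ j₀ c hφ hr θ (hm 0 2 1 1) s01 (by norm_num)
  obtain ⟨κ02, h02⟩ := T_const i₀ j₀ c hφ hr θ (hm 0 3 1 2) s02 (by norm_num)
  obtain ⟨κ03, h03⟩ := T_const i₀ j₀ c hφ hr θ (hm 0 4 1 3) s03 (by norm_num)
  obtain ⟨κ12, h12⟩ := T_const i₀ j₀ c hφ hr θ (hm 1 3 2 2) s12 (by norm_num)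
  obtain ⟨κ13, h13⟩ := T_const i₀ j₀ c hφ hr θ (hm 1 4 2 3) s13 (by norm_num)
  refine eq_zero_of_rel i₀ j₀ hφ hr θ hb (by norm_num) (m1 := 1) rfl fun m j x => ?_
  have hneg : sbc c (-L 1) = - sbc c (L 1) :=
    map_neg (MvPolynomial.eval₂Hom MvPolynomial.C (fun l => (bform c l).1)) _
  have f0 := rel3 i₀ j₀ c hφ hr θ j x (E := 3) (e₁ := 1) (e₂ := 1) (e₃ := 1) rfl rfl rfl (hL 0) (hL 1).neg (hL 2)
    (hm 1 3 2 2) (hm 0 3 1 2) (hm 0 2 1 1) s12 s02 s01 (by ring) h12 h02 h01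
  have f1 := rel3 i₀ j₀ c hφ hr θ j x (E := 3) (e₁ := 1) (e₂ := 1) (e₃ := 1) rfl rfl rfl (hL 0) (hL 1).neg (hL 3)
    (hm 1 4 2 3) (hm 0 4 1 3) (hm 0 2 1 1) s13 s03 s01 (by ring) h13 h03 h01
  rw [hneg, e0, e1, e2] at f0
  rw [hneg, e0, e1, e3] at f1
  have k12 : κ12 = 0 := by
    have := congrArg (MvPolynomial.eval (![1, 0] : Fin 2 → k)) f0
    simpa using this
  have k13 : κ13 = 0 := by
    have := congrArg (MvPolynomial.eval (![1, 0] : Fin 2 → k)) f1
    simpa using this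
  have g1 := congrArg (MvPolynomial.eval (![1, 1] : Fin 2 → k)) f0
  have g2 := congrArg (MvPolynomial.eval (![1, -1] : Fin 2 → k)) f0
  have g3 := congrArg (MvPolynomial.eval (![1, 1] : Fin 2 → k)) f1
  simp [k12] at g1 g2
  have k01 : κ01 = 0 := by linear_combination (1 / 2 : k) * (g1 + g2)
  have k02 : κ02 = 0 := by linear_combination (1 / 2 : k) * (g2 - g1)
  simp [k13, k01] at g3
  have hal : al x (bform c j).1 ^ 2 ≠ 0 := pow_ne_zero _ (al_ne_zero i₀ j₀ _ hφ j x)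
  have t : ∀ {κ : k} {P : MvPolynomial (Fin 5) k}, κ = 0 →
      (∀ (j : Fin 5) (x : VV i₀ j₀ j), T i₀ j₀ θ j P x * al x (bform c j).1 ^ 2 = al x (MvPolynomial.C κ)) →
      T i₀ j₀ θ j P x = 0 := by
    intro κ P hκ h
    have h' := h j x
    rw [hκ, map_zero, map_zero] at h'
    exact (mul_eq_zero.1 h').resolve_right hal
  have t01 := t k01 h01
  have t02 := t k02 h02
  have t03 := t g3 h03
  have r01 := rho_dl i₀ j₀ (bform c) hφ hr (hm 0 2 1 1) s01 j
  have r02 := rho_dl i₀ j₀ (bform c) hφ hr (hm 0 3 1 2) s02 j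
  have r03 := rho_dl i₀ j₀ (bform c) hφ hr (hm 0 4 1 3) s03 j
  have key : ∀ y ∈ ({L 0 * L 2 - L 1 * L 1, L 0 * L 3 - L 1 * L 2, L 0 * L 4 - L 1 * L 3} :
      Set (MvPolynomial (Fin 5) k)), rho i₀ j₀ (chart 4 k j) (dl k j y) = 0 ∧ T i₀ j₀ θ j y x = 0 := by
    rintro y (rfl | rfl | rfl)
    exacts [⟨r01, t01⟩, ⟨r02, t02⟩, ⟨r03, t03⟩]
  refine (T_span i₀ j₀ θ key ?_).2
  have m01 : L 0 * L 2 - L 1 * L 1 ∈ Ideal.span ({L 0 * L 2 - L 1 * L 1, L 0 * L 3 - L 1 * L 2,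
      L 0 * L 4 - L 1 * L 3} : Set (MvPolynomial (Fin 5) k)) := Ideal.subset_span (Or.inl rfl)
  have m02 : L 0 * L 3 - L 1 * L 2 ∈ Ideal.span ({L 0 * L 2 - L 1 * L 1, L 0 * L 3 - L 1 * L 2,
      L 0 * L 4 - L 1 * L 3} : Set (MvPolynomial (Fin 5) k)) := Ideal.subset_span (Or.inr (Or.inl rfl))
  have m03 : L 0 * L 4 - L 1 * L 3 ∈ Ideal.span ({L 0 * L 2 - L 1 * L 1, L 0 * L 3 - L 1 * L 2,
      L 0 * L 4 - L 1 * L 3} : Set (MvPolynomial (Fin 5) k)) := Ideal.subset_span (Or.inr (Or.inr rfl))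
  fin_cases m
  · have h : L 0 ^ 0 * L 0 - L 0 * L 1 ^ 0 = 0 := by ring
    change L 0 ^ 0 * L 0 - L 0 * L 1 ^ 0 ∈ _
    rw [h]
    exact zero_mem _
  · have h : L 0 ^ 1 * L 1 - L 0 * L 1 ^ 1 = 0 := by ring
    change L 0 ^ 1 * L 1 - L 0 * L 1 ^ 1 ∈ _
    rw [h]
    exact zero_mem _
  · have h : L 0 ^ 2 * L 2 - L 0 * L 1 ^ 2 = L 0 * (L 0 * L 2 - L 1 * L 1) := by ring
    change L 0 ^ 2 * L 2 - L 0 * L 1 ^ 2 ∈ _
    rw [h]
    exact Ideal.mul_mem_left _ _ m01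
  · have h : L 0 ^ 3 * L 3 - L 0 * L 1 ^ 3 = L 0 ^ 2 * (L 0 * L 3 - L 1 * L 2) +
        L 0 * L 1 * (L 0 * L 2 - L 1 * L 1) := by ring
    change L 0 ^ 3 * L 3 - L 0 * L 1 ^ 3 ∈ _
    rw [h]
    exact add_mem (Ideal.mul_mem_left _ _ m02) (Ideal.mul_mem_left _ _ m01)
  · have h : L 0 ^ 4 * L 4 - L 0 * L 1 ^ 4 = L 0 ^ 3 * (L 0 * L 4 - L 1 * L 3) +
        L 0 ^ 2 * L 1 * (L 0 * L 3 - L 1 * L 2) + L 0 * L 1 ^ 2 * (L 0 * L 2 - L 1 * L 1) := by ring
    change L 0 ^ 4 * L 4 - L 0 * L 1 ^ 4 ∈ _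
    rw [h]
    exact add_mem (add_mem (Ideal.mul_mem_left _ _ m03) (Ideal.mul_mem_left _ _ m02)) (Ideal.mul_mem_left _ _ m01)

end Degenerate

section Final

/-- Smooth rational quartic curves on a cubic threefold have no homomorphisms from the conormal sheaf to `O(-8)`. -/
theorem hom_conormal_quartic {k : Type u} [Field k] [IsAlgClosed k] [CharZero k] (f : LefPen.Form 4 k 3)
    (i : CohB1.ProjSpace 1 k ⟶ Xf f) [IsClosedImmersion i] (c : Fin 5 → Fin 5 → k) (hi : IsPar f 4 c i)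
    (θ : Omega.conormal i ⟶ Twist.twistProjSpace 1 k (-8)) : θ = 0 := by
  have hφ : GivenBy (i ≫ emb f) (Twist.twistProjSpace 1 k ((4 : ℕ) : ℤ)) (fun l => glob (bform (d := 4) c l)) := hi.2
  have hr : (i ≫ emb f) ≫ CohB1.ProjSpace.toSpec 4 k = CohB1.ProjSpace.toSpec 1 k := by
    rw [Category.assoc]; exact hi.1
  by_cases hc : LinearIndependent k c
  · exact hom_conormal_quartic_normal i (emb f) c hφ hr hc θ
  · exact hom_conormal_degenerate i (emb f) c hφ hr hc θ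

end Final

end K475.QuartHom
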