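import Groth.Agent.Fano.K475.RatClass
import Groth.Agent.Fano.K475.ConForm
import Groth.Agent.Fano.K387.RatNormal

/-!
# Parametrisations of smooth rational curves of any degree on a cubic threefold

* `exists_par_gen`: a closed immersion `i : P^1 → V_+(f) ⊂ P^4` over `k` of degree `d > 0` is given by five binary forms
  `c` of degree `d` (`IsPar f d c i`), satisfying the equation, without base points (`Nz c`), and separating points with
  values in arbitrary `k`-algebras (`Sep c`);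
* `exists_hyperplane`: if the span of `c` is not everything, the curve lies in a hyperplane (form used in S16531).
-/

set_option autoImplicit false
universe u

open CategoryTheory AlgebraicGeometry Limits TopologicalSpace Opposite

namespace K475.RatPar

open LefPen Groth.Agent.Fano.K714.Rat K475.PtCoord K475.RatAlg K475.RatClass K390.PnSec K330.FormSec
open Groth.Agent.Ega2.H295.PnCoord Groth.Agent.Lefpen.H705.HypIdeal K693.ConFam

variable {k : Type u} [Field k]

/-- The parametrisation satisfies the equation. -/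
theorem eval_cpt (f : LefPen.Form 4 k 3) {d : ℕ} (hd : d ≠ 0) {i : CohB1.ProjSpace 1 k ⟶ Xf f} [IsClosedImmersion i]
    {c : Fin (d + 1) → Fin 5 → k} (hi : IsPar f d c i) (s t : k) : MvPolynomial.eval (cpt c s t) f.1 = 0 := by
  have hr : (i ≫ emb f) ≫ CohB1.ProjSpace.toSpec 4 k = CohB1.ProjSpace.toSpec 1 k := by
    rw [Category.assoc]; exact hi.1
  have h1 : GivenBy (i ≫ emb f) (Twist.twistProjSpace 1 k (d : ℤ)) (fun l => glob (bform c l)) := hi.2
  have hn : Nz c := nz hr h1
  by_cases h2 : (![s, t] : Fin 2 → k) = 0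
  · have hs : s = 0 := congrFun h2 0
    have ht : t = 0 := congrFun h2 1
    rw [hs, ht, cpt_zero hd]
    have h3 : f.1.IsHomogeneous 3 := (MvPolynomial.mem_homogeneousSubmodule 3 _).1 f.2
    have h4 := eval₂_smul_of_homogeneous (RingHom.id k) (0 : Fin 5 → k) 0 h3
    rw [zero_pow (by norm_num), zero_mul] at h4
    have h5 : (fun l => (0 : k) * (0 : Fin 5 → k) l) = 0 := by funext l; exact zero_mul _
    rw [h5, MvPolynomial.eval₂_id] at h4
    exact h4
  · obtain ⟨j, hj⟩ := Function.ne_iff.1 h2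
    obtain ⟨P, hP⟩ := exists_HC (k := k) _ (IsUnit.mk0 _ hj)
    have h3 := hP.comp hr h1 (IsUnit.mk0 _ hj)
    obtain ⟨l, hl⟩ := hn _ h2
    have h4 : (hypIdeal f).comap (P ≫ i ≫ emb f) = ⊥ := by
      have h5 : (hypIdeal f).comap (emb f) = ⊥ := by
        rw [← le_bot_iff, ← Scheme.IdealSheafData.le_map_iff_comap_le, Scheme.IdealSheafData.map_bot,
          Scheme.IdealSheafData.ker_subschemeι]
      rw [← Category.assoc, Scheme.IdealSheafData.comap_comp, h5, Scheme.IdealSheafData.comap_bot]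
    have h5 := h3.2.val_eq_zero (j := l) ((IsUnit.mk0 _ hl).map (γ k)) f h4
    rw [h3.1, val_γ, ev_eq_cpt] at h5
    have h6 := γ_injective k (h5.trans (map_zero _).symm)
    rw [← h6]
    rfl

/-- Closed immersions of degree `d` are parametrised. -/
theorem exists_par_gen (f : LefPen.Form 4 k 3) {d : ℕ} (hd : d ≠ 0) (i : CohB1.ProjSpace 1 k ⟶ Xf f)
    [IsClosedImmersion i] (hi : i ≫ ps f = CohB1.ProjSpace.toSpec 1 k)
    (hdeg : Nonempty ((Scheme.Modules.pullback (i ≫ emb f)).obj (Twist.twistProjSpace 4 k 1) ≅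
      Twist.twistProjSpace 1 k (d : ℤ))) :
    ∃ c : Fin (d + 1) → Fin 5 → k, IsPar f d c i ∧ Sep c ∧ Nz c ∧
      ∀ s t : k, MvPolynomial.eval (cpt c s t) f.1 = 0 := by
  obtain ⟨τ⟩ := hdeg
  have hr : (i ≫ emb f) ≫ CohB1.ProjSpace.toSpec 4 k = CohB1.ProjSpace.toSpec 1 k := by
    rw [Category.assoc]; exact hi
  have h0 : ∀ l, ∃ F : Form 1 k d, τ.hom.app ⊤ (tsec (i ≫ emb f) l) = glob F := by
    intro l
    obtain ⟨F, hF⟩ := K699.TwHom.exists_poly (n := 1) (R := k) (τ.hom.app ⊤ (tsec (i ≫ emb f) l))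
    refine ⟨F, tv_ext fun x => ?_⟩
    rw [tv_glob]
    exact hF x.1 x.2
  choose F hF using h0
  obtain ⟨c, hc⟩ := exists_bform F
  have h1 : GivenBy (i ≫ emb f) (Twist.twistProjSpace 1 k (d : ℤ)) (fun l => glob (bform c l)) :=
    ⟨τ, fun l => (hF l).trans (congrArg glob (hc l).symm)⟩
  have h2 : IsPar f d c i := ⟨hi, h1⟩
  exact ⟨c, h2, sep hr h1, nz hr h1, eval_cpt f hd h2⟩

/-- Curves with degenerate coefficients lie in hyperplanes. -/
theorem exists_hyperplane (f : LefPen.Form 4 k 3) {d : ℕ} {i : CohB1.ProjSpace 1 k ⟶ Xf f} [IsClosedImmersion i]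
    {c : Fin (d + 1) → Fin 5 → k} (hi : IsPar f d c i) {l : Fin 5 → k} (hl0 : l ≠ 0)
    (hl : ∀ m, ∑ j, l j * c m j = 0) :
    ∃ (L : LefPen.Form 4 k 1) (j : CohB1.ProjSpace 1 k ⟶ (LefPen.hypIdeal L).subscheme), L ≠ 0 ∧
      j ≫ (LefPen.hypIdeal L).subschemeι = i ≫ (LefPen.hypIdeal f).subschemeι := by
  have hr : (i ≫ emb f) ≫ CohB1.ProjSpace.toSpec 4 k = CohB1.ProjSpace.toSpec 1 k := by
    rw [Category.assoc]; exact hi.1
  have h1 : GivenBy (i ≫ emb f) (Twist.twistProjSpace 1 k (d : ℤ)) (fun l => glob (bform c l)) := hi.2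
  let P : MvPolynomial (Fin 5) k := ∑ j, MvPolynomial.C (l j) * MvPolynomial.X j
  have hP : P.IsHomogeneous 1 := MvPolynomial.IsHomogeneous.sum _ _ _ fun j _ => by
    simpa using (MvPolynomial.isHomogeneous_C (Fin 5) (l j)).mul (MvPolynomial.isHomogeneous_X k j)
  have hs : K475.ConForm.sb (N := 4) (bform c) P = 0 := by
    change MvPolynomial.eval₂Hom _ _ _ = _
    simp only [P, map_sum, map_mul, MvPolynomial.eval₂Hom_C, MvPolynomial.eval₂Hom_X', bform, Finset.mul_sum]
    rw [Finset.sum_comm]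
    refine Finset.sum_eq_zero fun m _ => ?_
    have h2 : ∀ j, MvPolynomial.C (l j) * (MvPolynomial.C (c m j) * (MvPolynomial.X 0 ^ (d - (m : ℕ)) *
        MvPolynomial.X 1 ^ (m : ℕ))) = MvPolynomial.C (l j * c m j) * (MvPolynomial.X 0 ^ (d - (m : ℕ)) *
        MvPolynomial.X 1 ^ (m : ℕ) : MvPolynomial (Fin 2) k) := fun j => by rw [map_mul]; ring
    rw [Finset.sum_congr rfl fun j _ => h2 j, ← Finset.sum_mul, ← map_sum, hl m, map_zero, zero_mul]
  let L : LefPen.Form 4 k 1 := ⟨P, (MvPolynomial.mem_homogeneousSubmodule _ _).2 hP⟩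
  have h3 : ∀ j, ((i ≫ emb f).app (LefPen.chart 4 k j)).hom (LefPen.dehom L j) = 0 := by
    intro j
    have h4 := K475.ConForm.rho_dl i (emb f) (bform c) h1 hr hP hs j
    rw [K475.ConForm.rho_eq] at h4
    have h5 := K475.ConForm.dl_form j L
    change K475.ConForm.dl k j P = _ at h5
    rw [h5] at h4
    have h6 : (i ≫ emb f).appLE (chart 4 k j) (i ⁻¹ᵁ (emb f) ⁻¹ᵁ (chart 4 k j)) le_rfl =
        (i ≫ emb f).app (chart 4 k j) := Scheme.Hom.appLE_eq_app _
    rw [h6] at h4
    exact h4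
  have h4 : (hypIdeal L).subschemeι.ker ≤ (i ≫ emb f).ker := by
    rw [Scheme.IdealSheafData.ker_subschemeι]
    exact K995.ConicEmb.hypIdeal_le_ker L (i ≫ emb f) h3
  refine ⟨L, IsClosedImmersion.lift (hypIdeal L).subschemeι (i ≫ emb f) h4, ?_, IsClosedImmersion.lift_fac _ _ _⟩
  intro h
  apply hl0
  have h5 : P = 0 := congrArg Subtype.val h
  ext j
  have h6 := congrArg (MvPolynomial.eval (Pi.single j 1 : Fin 5 → k)) h5
  simpa [P, Pi.single_apply] using h6

/-- Four-dimensional version for quartics: dependent coefficients lie in a hyperplane. -/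
theorem exists_hyperplane_of_dep (f : LefPen.Form 4 k 3) {i : CohB1.ProjSpace 1 k ⟶ Xf f} [IsClosedImmersion i]
    {c : Fin (4 + 1) → Fin 5 → k} (hi : IsPar f 4 c i) (hc : ¬ LinearIndependent k c) :
    ∃ (L : LefPen.Form 4 k 1) (j : CohB1.ProjSpace 1 k ⟶ (LefPen.hypIdeal L).subscheme), L ≠ 0 ∧
      j ≫ (LefPen.hypIdeal L).subschemeι = i ≫ (LefPen.hypIdeal f).subschemeι := by
  have h1 : (Matrix.of c).det = 0 := by
    rw [← Matrix.exists_vecMul_eq_zero_iff]
    rw [Fintype.linearIndependent_iff] at hc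
    push Not at hc
    obtain ⟨g, hg, m, hm⟩ := hc
    refine ⟨g, fun h => hm (congrFun h m), ?_⟩
    funext j
    have := congrFun hg j
    rw [Finset.sum_apply] at this
    exact this
  obtain ⟨l, hl0, hl⟩ := Matrix.exists_mulVec_eq_zero_iff.2 h1
  refine exists_hyperplane f hi hl0 fun m => ?_
  have := congrFun hl m
  simp only [Matrix.mulVec, dotProduct, Matrix.of_apply, Pi.zero_apply] at this
  rw [← this]
  exact Finset.sum_congr rfl fun j _ => mul_comm _ _

end K475.RatPar
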