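import Groth.Agent.Fano.K798.TwBin
import Groth.Agent.Fano.K714.RatDef
import Mathlib.LinearAlgebra.Lagrange

/-!
# Binary forms as functions

* `IsF d F`: the function `F : k → k → k` is a binary form of degree `d`;
* `IsF.mul`, `add`, `sum`, `const_mul`;
* `bez`: every form of degree `n ≥ p + q - 1` is a combination of two forms of degrees `p, q > 0` without common zero;
* `exists_interp`: forms of degree `N` with given values at `N + 1` points `(1, τ j)`;
* `eq_zero_of_values`: a form of degree `N` vanishing at `N + 1` points vanishes;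
* `exists_cpt`: coefficient vectors of `∑ F_i w_i`.
-/

set_option autoImplicit false
universe u

namespace K475.BinSet

open K798.TwBin

variable {k : Type u} [Field k]

/-- `F` is a binary form of degree `d`. -/
def IsF (d : ℕ) (F : k → k → k) : Prop := ∃ a : Fin (d + 1) → k, ∀ s t, F s t = bv a s t

theorem IsF.congr {d : ℕ} {F G : k → k → k} (hF : IsF d F) (h : ∀ s t, G s t = F s t) : IsF d G := by
  obtain ⟨a, ha⟩ := hF
  exact ⟨a, fun s t => (h s t).trans (ha s t)⟩

theorem IsF.add {d : ℕ} {F G : k → k → k} (hF : IsF d F) (hG : IsF d G) : IsF d (fun s t => F s t + G s t) := by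
  obtain ⟨a, ha⟩ := hF
  obtain ⟨b, hb⟩ := hG
  obtain ⟨c, hc⟩ := exists_add a b
  exact ⟨c, fun s t => by beta_reduce; rw [hc, ha, hb]⟩

theorem IsF.mul {p q n : ℕ} {F G : k → k → k} (hF : IsF p F) (hG : IsF q G) (h : p + q = n) :
    IsF n (fun s t => F s t * G s t) := by
  subst h
  obtain ⟨a, ha⟩ := hF
  obtain ⟨b, hb⟩ := hG
  obtain ⟨c, hc⟩ := exists_mul a b
  exact ⟨c, fun s t => by beta_reduce; rw [hc, ha, hb]⟩

theorem isF_const (a : k) : IsF 0 (fun _ _ => a) := ⟨![a], fun s t => by simp [bv]⟩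

theorem isF_zero (d : ℕ) : IsF d (fun _ _ => (0 : k)) := ⟨0, fun s t => by simp [bv]⟩

theorem IsF.const_mul {d : ℕ} {F : k → k → k} (hF : IsF d F) (a : k) : IsF d (fun s t => a * F s t) :=
  (isF_const a).mul hF (zero_add d)

theorem IsF.neg {d : ℕ} {F : k → k → k} (hF : IsF d F) : IsF d (fun s t => - F s t) :=
  (hF.const_mul (-1)).congr fun s t => by ring

theorem IsF.sub {d : ℕ} {F G : k → k → k} (hF : IsF d F) (hG : IsF d G) : IsF d (fun s t => F s t - G s t) :=
  (hF.add hG.neg).congr fun s t => by ring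

theorem isF_s : IsF 1 (fun s _ => (s : k)) := ⟨![1, 0], fun s t => by simp [bv, Fin.sum_univ_two]⟩

theorem isF_t : IsF 1 (fun _ t => (t : k)) := ⟨![0, 1], fun s t => by simp [bv, Fin.sum_univ_two]⟩

theorem isF_lin (a b : k) : IsF 1 (fun s t => a * s + b * t) := (isF_s.const_mul a).add (isF_t.const_mul b)

theorem isF_mono (d i : ℕ) (hi : i ≤ d) : IsF d (fun s t => (s ^ (d - i) * t ^ i : k)) := by
  classical
  refine ⟨Pi.single (⟨i, by omega⟩ : Fin (d + 1)) 1, fun s t => ?_⟩
  rw [bv, Finset.sum_eq_single (⟨i, by omega⟩ : Fin (d + 1))]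
  · rw [Pi.single_eq_same, one_mul]
  · intro j _ hj
    rw [Pi.single_eq_of_ne hj, zero_mul]
  · intro h; exact absurd (Finset.mem_univ _) h

theorem IsF.sum {ι : Type*} {d : ℕ} (S : Finset ι) {F : ι → k → k → k} (hF : ∀ i ∈ S, IsF d (F i)) :
    IsF d (fun s t => ∑ i ∈ S, F i s t) := by
  classical
  induction S using Finset.induction_on with
  | empty => exact (isF_zero d).congr fun s t => Finset.sum_empty
  | insert i S hi ih =>
    exact ((hF i (Finset.mem_insert_self i S)).add (ih fun j hj => hF j (Finset.mem_insert_of_mem hj))).congr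
      fun s t => Finset.sum_insert hi

theorem IsF.smul {d : ℕ} {F : k → k → k} (hF : IsF d F) (r s t : k) : F (r * s) (r * t) = r ^ d * F s t := by
  obtain ⟨a, ha⟩ := hF
  rw [ha, ha, bv_smul]

/-- Splitting off the last coefficient. -/
theorem IsF.split {d : ℕ} {F : k → k → k} (hF : IsF (d + 1) F) : ∃ G H : k → k → k, IsF d G ∧ IsF d H ∧
    ∀ s t, F s t = s * G s t + t * H s t := by
  obtain ⟨a, ha⟩ := hF
  refine ⟨fun s t => bv (fun i : Fin (d + 1) => a i.castSucc) s t, fun s t => a (Fin.last (d + 1)) * (s ^ (d - d) * t ^ d),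
    ⟨_, fun s t => rfl⟩, (isF_mono d d le_rfl).const_mul _, fun s t => ?_⟩
  beta_reduce
  rw [ha]
  unfold bv
  rw [Fin.sum_univ_castSucc, Finset.mul_sum]
  congr 1
  · refine Finset.sum_congr rfl fun i _ => ?_
    have h1 : d + 1 - (i.castSucc : ℕ) = (d - (i : ℕ)) + 1 := by
      have := i.2
      simp only [Fin.val_castSucc]
      omega
    rw [h1, pow_succ, Fin.val_castSucc]
    ring
  · rw [Fin.val_last, Nat.sub_self, Nat.sub_self, pow_succ]
    ring

/-- Two forms without common zero generate all forms of large degree. -/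
theorem bez [IsAlgClosed k] {p q : ℕ} {P Q : k → k → k} (hP : IsF (p + 1) P) (hQ : IsF (q + 1) Q)
    (hno : ∀ s t : k, (s ≠ 0 ∨ t ≠ 0) → P s t = 0 → Q s t = 0 → False) (m : ℕ) {G : k → k → k}
    (hG : IsF (p + q + 1 + m) G) :
    ∃ A B : k → k → k, IsF (q + m) A ∧ IsF (p + m) B ∧ ∀ s t, G s t = A s t * P s t + B s t * Q s t := by
  induction m generalizing G with
  | zero =>
    obtain ⟨a, ha⟩ := hP
    obtain ⟨b, hb⟩ := hQ
    obtain ⟨g, hg⟩ := hG
    obtain ⟨u, v, huv⟩ := bezout a b (fun s t hst h1 h2 => hno s t hst (by rw [ha]; exact h1) (by rw [hb]; exact h2)) g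
    refine ⟨fun s t => bv u s t, fun s t => bv v s t, ⟨u, fun s t => rfl⟩, ⟨v, fun s t => rfl⟩, fun s t => ?_⟩
    rw [ha, hb, huv, hg]
  | succ m ih =>
    obtain ⟨G1, G2, h1, h2, h⟩ := IsF.split (d := p + q + 1 + m) hG
    obtain ⟨A1, B1, hA1, hB1, e1⟩ := ih h1
    obtain ⟨A2, B2, hA2, hB2, e2⟩ := ih h2
    refine ⟨fun s t => s * A1 s t + t * A2 s t, fun s t => s * B1 s t + t * B2 s t,
      (isF_s.mul hA1 (by omega)).add (isF_t.mul hA2 (by omega)),
      (isF_s.mul hB1 (by omega)).add (isF_t.mul hB2 (by omega)), fun s t => ?_⟩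
    rw [h, e1, e2]
    ring

theorem IsF.poly {d : ℕ} {F : k → k → k} (hF : IsF d F) : ∃ P : Polynomial k, P.degree < (d + 1 : ℕ) ∧
    (∀ t, P.eval t = F 1 t) ∧ (P = 0 → ∀ s t, F s t = 0) := by
  obtain ⟨a, ha⟩ := hF
  have hc : ∀ j : Fin (d + 1), (∑ i : Fin (d + 1), Polynomial.C (a i) * Polynomial.X ^ (i : ℕ)).coeff (j : ℕ) = a j := by
    intro j
    rw [Polynomial.finsetSum_coeff, Finset.sum_eq_single j]
    · rw [Polynomial.coeff_C_mul_X_pow, if_pos rfl]
    · intro i _ hi
      rw [Polynomial.coeff_C_mul_X_pow, if_neg]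
      intro h
      exact hi (Fin.ext h.symm)
    · intro h; exact absurd (Finset.mem_univ _) h
  refine ⟨∑ i : Fin (d + 1), Polynomial.C (a i) * Polynomial.X ^ (i : ℕ), ?_, fun t => ?_, fun h s t => ?_⟩
  · rw [Polynomial.degree_lt_iff_coeff_zero]
    intro m hm
    rw [Polynomial.finsetSum_coeff]
    refine Finset.sum_eq_zero fun i _ => ?_
    rw [Polynomial.coeff_C_mul_X_pow, if_neg]
    have := i.2
    omega
  · rw [ha, bv, Polynomial.eval_finsetSum]
    refine Finset.sum_congr rfl fun i _ => ?_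
    simp
  · rw [ha, bv]
    refine Finset.sum_eq_zero fun i _ => ?_
    rw [← hc i, h, Polynomial.coeff_zero, zero_mul]

/-- A form of degree `N` vanishing at `N + 1` points vanishes. -/
theorem eq_zero_of_values {N : ℕ} {F : k → k → k} (hF : IsF N F) {τ : Fin (N + 1) → k} (hτ : Function.Injective τ)
    (h : ∀ j, F 1 (τ j) = 0) (s t : k) : F s t = 0 := by
  obtain ⟨P, hP, he, hz⟩ := hF.poly
  classical
  refine hz ?_ s t
  by_contra hne
  have h1 : (Finset.univ.image τ).card ≤ P.roots.toFinset.card := by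
    refine Finset.card_le_card fun x hx => ?_
    obtain ⟨j, -, rfl⟩ := Finset.mem_image.1 hx
    rw [Multiset.mem_toFinset, Polynomial.mem_roots hne, Polynomial.IsRoot, he]
    exact h j
  rw [Finset.card_image_of_injective _ hτ, Finset.card_univ, Fintype.card_fin] at h1
  have h2 : P.roots.toFinset.card ≤ P.natDegree := (Multiset.toFinset_card_le _).trans (Polynomial.card_roots' P)
  have h3 : P.natDegree < N + 1 := (Polynomial.natDegree_lt_iff_degree_lt hne).2 hP
  omega

/-- Forms with prescribed values. -/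
theorem exists_interp {N : ℕ} {τ : Fin (N + 1) → k} (hτ : Function.Injective τ) (y : Fin (N + 1) → k) :
    ∃ F : k → k → k, IsF N F ∧ ∀ j, F 1 (τ j) = y j := by
  classical
  let P := Lagrange.interpolate Finset.univ τ y
  have hP : P.degree < (N + 1 : ℕ) := by
    have := Lagrange.degree_interpolate_lt (s := Finset.univ) y (Set.injOn_of_injective hτ)
    rw [Finset.card_univ, Fintype.card_fin] at this
    exact this
  refine ⟨fun s t => bv (fun i : Fin (N + 1) => P.coeff (i : ℕ)) s t, ⟨_, fun s t => rfl⟩, fun j => ?_⟩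
  have h1 : P.eval (τ j) = y j := Lagrange.eval_interpolate_at_node y (Set.injOn_of_injective hτ) (Finset.mem_univ j)
  rw [← h1]
  unfold bv
  have h2 : P.natDegree < N + 1 := by
    by_cases h0 : P = 0
    · rw [h0, Polynomial.natDegree_zero]; omega
    · exact (Polynomial.natDegree_lt_iff_degree_lt h0).2 hP
  rw [Polynomial.eval_eq_sum_range' h2, ← Fin.sum_univ_eq_sum_range (fun i => P.coeff i * τ j ^ i) (N + 1)]
  exact Finset.sum_congr rfl fun i _ => by rw [one_pow, one_mul]

/-- The coefficient vectors of a combination of vectors with binary forms as coefficients. -/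
theorem exists_cpt {ι : Type*} [Fintype ι] {d : ℕ} {F : ι → k → k → k} (hF : ∀ i, IsF d (F i)) (w : ι → Fin 5 → k) :
    ∃ c : Fin (d + 1) → Fin 5 → k, (∀ m, ∃ x : ι → k, c m = ∑ i, x i • w i) ∧
      ∀ s t, Groth.Agent.Fano.K714.Rat.cpt c s t = ∑ i, F i s t • w i := by
  choose a ha using hF
  refine ⟨fun m => ∑ i, a i m • w i, fun m => ⟨fun i => a i m, rfl⟩, fun s t => ?_⟩
  rw [Groth.Agent.Fano.K714.Rat.cpt]
  simp only [Finset.smul_sum]
  rw [Finset.sum_comm]
  refine Finset.sum_congr rfl fun i _ => ?_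
  rw [ha, bv, Finset.sum_smul]
  refine Finset.sum_congr rfl fun m _ => ?_
  rw [smul_smul, mul_comm]

end K475.BinSet
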