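import Groth.Agent.Fano.K475.ConAlg
import Groth.Agent.Fano.K713.Binary
import Mathlib.LinearAlgebra.Eigenspace.Triangularizable

/-!
# Degenerate rational quartics without multiple points

For coefficient vectors `c : Fin 5 → Fin 5 → k`, linearly dependent, such that the parametrisation `bform c` has no base
points and separates points and tangent vectors:
* `no_quadric`: the apolar quartic has nonzero catalecticant;
* `unique`: there is only one linear relation between the `c m`;
* `exists_scroll`: there are binary cubic forms `α`, `β` without common factor such that the coordinates of the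
  parametrisation span the same space as `s α, t α, s β, t β`.
-/

set_option autoImplicit false
universe u

open MvPolynomial

namespace K475.QuartAlg

open Groth.Agent.Fano.K714.Rat K475.RatAlg K475.ConAlg

variable {k : Type u} [Field k]

section NoQuadric

variable [IsAlgClosed k] [CharZero k] {c : Fin (4 + 1) → Fin 5 → k}

theorem no_quadric (hs : Sep c) (hn : Nz c) {l0 l1 l2 l3 l4 : k}
    (hl' : ∀ j, l0 * c 0 j + l1 * c 1 j + l2 * c 2 j + l3 * c 3 j + l4 * c 4 j = 0) {q0 q1 q2 : k}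
    (hq : ¬ (q0 = 0 ∧ q1 = 0 ∧ q2 = 0)) (e1 : l0 * q0 + l1 * q1 + l2 * q2 = 0)
    (e2 : l1 * q0 + l2 * q1 + l3 * q2 = 0) (e3 : l2 * q0 + l3 * q1 + l4 * q2 = 0) :
    l0 = 0 ∧ l1 = 0 ∧ l2 = 0 ∧ l3 = 0 ∧ l4 = 0 := by
  by_cases h0 : q0 = 0
  · subst h0
    by_cases h1 : q1 = 0
    · subst h1
      have h2 : q2 ≠ 0 := fun h => hq ⟨rfl, rfl, h⟩
      have h3 : l2 = 0 := (mul_eq_zero.1 (show l2 * q2 = 0 by linear_combination e1)).resolve_right h2
      have h4 : l3 = 0 := (mul_eq_zero.1 (show l3 * q2 = 0 by linear_combination e2)).resolve_right h2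
      have h5 : l4 = 0 := (mul_eq_zero.1 (show l4 * q2 = 0 by linear_combination e3)).resolve_right h2
      have h6 := false_of_tangent hs hn (b := ![1, 0]) (w := ![0, 1]) (x := l0) (y := l1)
        (by intro h; simpa using congrFun h 0) (by simp) (fun j => by
          have := hl' j
          simp [ev, dv, Fin.sum_univ_five]
          rw [h3, h4, h5] at this
          linear_combination this)
      exact ⟨h6.1, h6.2, h3, h4, h5⟩
    · obtain ⟨r, hr⟩ : ∃ r, r * q1 = - q2 := ⟨-q2 / q1, div_mul_cancel₀ _ h1⟩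
      have h3 : l1 = r * l2 := mul_right_cancel₀ h1 (by linear_combination e1 - l2 * hr)
      have h4 : l2 = r * l3 := mul_right_cancel₀ h1 (by linear_combination e2 - l3 * hr)
      have h5 : l3 = r * l4 := mul_right_cancel₀ h1 (by linear_combination e3 - l4 * hr)
      have h6 := false_of_points hs hn (b := ![r, 1]) (b' := ![1, 0]) (x := l4) (y := l0 - r ^ 4 * l4)
        (by intro h; simpa using congrFun h 1) (by intro h; simpa using congrFun h 0)
        (by simp) (fun j => by
          have := hl' j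
          simp [ev, Fin.sum_univ_five]
          rw [h3, h4, h5] at this
          linear_combination this)
      have h7 := h6.1
      have h8 := h6.2
      rw [h7, mul_zero, sub_zero] at h8
      rw [h7, mul_zero] at h5
      rw [h5, mul_zero] at h4
      rw [h4, mul_zero] at h3
      exact ⟨h8, h3, h4, h5, h7⟩
  · obtain ⟨δ, hδ⟩ := IsAlgClosed.exists_pow_nat_eq (q1 ^ 2 - 4 * q0 * q2) (n := 2) two_pos
    obtain ⟨a, ha⟩ : ∃ a, 2 * q0 * a = - q1 + δ :=
      ⟨(- q1 + δ) / (2 * q0), mul_div_cancel₀ _ (mul_ne_zero two_ne_zero h0)⟩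
    obtain ⟨b, hb⟩ : ∃ b, 2 * q0 * b = - q1 - δ :=
      ⟨(- q1 - δ) / (2 * q0), mul_div_cancel₀ _ (mul_ne_zero two_ne_zero h0)⟩
    have s1 : q1 = - (a + b) * q0 := by linear_combination (1 / 2 : k) * (ha + hb)
    have s2 : q2 = a * b * q0 := by
      have h4 : (4 * q0) * (q2 - a * b * q0) = 0 := by
        linear_combination hδ - (2 * q0 * b) * ha - (- q1 + δ) * hb
      have h5 := (mul_eq_zero.1 h4).resolve_left (mul_ne_zero (by norm_num) h0)
      linear_combination h5
    have h3 : l0 = (a + b) * l1 - a * b * l2 := mul_right_cancel₀ h0 (by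
      rw [s1, s2] at e1; linear_combination e1)
    have h4 : l1 = (a + b) * l2 - a * b * l3 := mul_right_cancel₀ h0 (by
      rw [s1, s2] at e2; linear_combination e2)
    have h5 : l2 = (a + b) * l3 - a * b * l4 := mul_right_cancel₀ h0 (by
      rw [s1, s2] at e3; linear_combination e3)
    by_cases hab : a = b
    · subst hab
      have h6 := false_of_tangent hs hn (b := ![a, 1]) (w := ![1, 0]) (x := l4) (y := l3 - a * l4)
        (by intro h; simpa using congrFun h 1) (by simp) (fun j => by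
          have := hl' j
          simp [ev, dv, Fin.sum_univ_five]
          rw [h3, h4, h5] at this
          linear_combination this)
      have h7 := h6.1
      have h8 := h6.2
      rw [h7, mul_zero, sub_zero] at h8
      rw [h7, h8, mul_zero, mul_zero, sub_zero] at h5
      rw [h5, h8, mul_zero, mul_zero, sub_zero] at h4
      rw [h4, h5, mul_zero, mul_zero, sub_zero] at h3
      exact ⟨h3, h4, h5, h8, h7⟩
    · have hab' : a - b ≠ 0 := sub_ne_zero.2 hab
      have h6 := false_of_points hs hn (b := ![a, 1]) (b' := ![b, 1]) (x := (l3 - b * l4) / (a - b))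
        (y := (a * l4 - l3) / (a - b))
        (by intro h; simpa using congrFun h 1) (by intro h; simpa using congrFun h 1)
        (by simpa using hab') (fun j => by
          have := hl' j
          simp [ev, Fin.sum_univ_five]
          rw [h3, h4, h5] at this
          field_simp
          linear_combination (a - b) * this)
      have h7 := h6.1
      have h8 := h6.2
      rw [div_eq_zero_iff, or_iff_left hab'] at h7 h8
      have h9 : l4 = 0 := (mul_eq_zero.1 (show (a - b) * l4 = 0 by linear_combination h7 + h8)).resolve_left hab'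
      have h10 : l3 = 0 := by rw [h9, mul_zero, sub_zero] at h7; exact h7
      rw [h9, h10, mul_zero, mul_zero, sub_zero] at h5
      rw [h5, h10, mul_zero, mul_zero, sub_zero] at h4
      rw [h4, h5, mul_zero, mul_zero, sub_zero] at h3
      exact ⟨h3, h4, h5, h10, h9⟩

/-- The Hankel matrix. -/
def hk (l : Fin 5 → k) : Matrix (Fin 3) (Fin 3) k := !![l 0, l 1, l 2; l 1, l 2, l 3; l 2, l 3, l 4]

omit [IsAlgClosed k] [CharZero k] in
theorem sum_rel {l : Fin 5 → k} (hl : ∑ m, l m • c m = 0) (j : Fin 5) :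
    l 0 * c 0 j + l 1 * c 1 j + l 2 * c 2 j + l 3 * c 3 j + l 4 * c 4 j = 0 := by
  have := congrFun hl j
  simpa [Fin.sum_univ_five] using this

omit [IsAlgClosed k] [CharZero k] in
theorem hk_mulVec (l : Fin 5 → k) (q : Fin 3 → k) : Matrix.mulVec (hk l) q =
    ![l 0 * q 0 + l 1 * q 1 + l 2 * q 2, l 1 * q 0 + l 2 * q 1 + l 3 * q 2, l 2 * q 0 + l 3 * q 1 + l 4 * q 2] := by
  ext i
  fin_cases i <;> simp [hk, Matrix.mulVec, dotProduct, Fin.sum_univ_three]

theorem eq_zero_of_hk (hs : Sep c) (hn : Nz c) {l : Fin 5 → k} (hl : ∑ m, l m • c m = 0) {q : Fin 3 → k} (hq : q ≠ 0)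
    (h : Matrix.mulVec (hk l) q = 0) : l = 0 := by
  rw [hk_mulVec] at h
  have h1 := no_quadric hs hn (sum_rel hl) (q0 := q 0) (q1 := q 1) (q2 := q 2) (by
    rintro ⟨h1, h2, h3⟩
    apply hq
    ext i
    fin_cases i
    exacts [h1, h2, h3]) (by simpa using congrFun h 0) (by simpa using congrFun h 1) (by simpa using congrFun h 2)
  ext i
  fin_cases i
  exacts [h1.1, h1.2.1, h1.2.2.1, h1.2.2.2.1, h1.2.2.2.2]

theorem unique (hs : Sep c) (hn : Nz c) {l l' : Fin 5 → k} (hl0 : l ≠ 0) (hl : ∑ m, l m • c m = 0)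
    (hl' : ∑ m, l' m • c m = 0) : ∃ μ : k, l' = μ • l := by
  have hdet : (hk l).det ≠ 0 := by
    intro h
    obtain ⟨q, hq, hq'⟩ := Matrix.exists_mulVec_eq_zero_iff.2 h
    exact hl0 (eq_zero_of_hk hs hn hl hq hq')
  obtain ⟨μ, hμ⟩ := Module.End.exists_eigenvalue (Matrix.mulVecLin ((hk l)⁻¹ * hk l'))
  obtain ⟨q, hq⟩ := hμ.exists_hasEigenvector
  have h1 : Matrix.mulVec ((hk l)⁻¹ * hk l') q = μ • q := hq.apply_eq_smul
  have h2 : Matrix.mulVec (hk l') q = μ • Matrix.mulVec (hk l) q := by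
    have h3 := congrArg (Matrix.mulVec (hk l)) h1
    rw [Matrix.mulVec_mulVec, ← mul_assoc, Matrix.mul_nonsing_inv _ (isUnit_iff_ne_zero.2 hdet), one_mul,
      Matrix.mulVec_smul] at h3
    exact h3
  refine ⟨μ, ?_⟩
  have h3 : ∑ m, (l' - μ • l) m • c m = 0 := by
    have h4 : ∀ m, (l' - μ • l) m • c m = l' m • c m - μ • l m • c m := fun m => by
      rw [Pi.sub_apply, Pi.smul_apply, sub_smul, smul_assoc]
    rw [Finset.sum_congr rfl fun m _ => h4 m, Finset.sum_sub_distrib, ← Finset.smul_sum, hl, hl', smul_zero, sub_zero]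
  have h4 : Matrix.mulVec (hk (l' - μ • l)) q = 0 := by
    rw [hk_mulVec] at h2 ⊢
    rw [hk_mulVec] at h2
    ext i
    have h5 := congrFun h2 i
    fin_cases i
    all_goals
      simp at h5 ⊢
      linear_combination h5
  exact sub_eq_zero.1 (eq_zero_of_hk hs hn h3 hq.2 h4)

end NoQuadric

section Pair

/-- Two solutions of two linear equations in four unknowns. -/
theorem exists_pair (A B : Fin 4 → k) : ∃ a b : Fin 4 → k, A ⬝ᵥ a = 0 ∧ B ⬝ᵥ a = 0 ∧ A ⬝ᵥ b = 0 ∧ B ⬝ᵥ b = 0 ∧
    ∀ C : Fin 4 → k, C ⬝ᵥ a = 0 → C ⬝ᵥ b = 0 → ∃ x y z : k, ¬ (x = 0 ∧ y = 0 ∧ z = 0) ∧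
      ∀ m, x * A m + y * B m + z * C m = 0 := by
  have h1 : (Matrix.of ![A, B, 0, 0] : Matrix (Fin 4) (Fin 4) k).det = 0 :=
    Matrix.det_eq_zero_of_row_eq_zero 2 fun j => by simp
  obtain ⟨a, ha, ha'⟩ := Matrix.exists_mulVec_eq_zero_iff.2 h1
  obtain ⟨j, hj⟩ := Function.ne_iff.1 ha
  have h2 : (Matrix.of ![A, B, Pi.single j 1, 0] : Matrix (Fin 4) (Fin 4) k).det = 0 :=
    Matrix.det_eq_zero_of_row_eq_zero 3 fun j => by simp
  obtain ⟨b, hb, hb'⟩ := Matrix.exists_mulVec_eq_zero_iff.2 h2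
  obtain ⟨i, hi⟩ := Function.ne_iff.1 hb
  have a0 : A ⬝ᵥ a = 0 := by simpa [Matrix.mulVec] using congrFun ha' 0
  have a1 : B ⬝ᵥ a = 0 := by simpa [Matrix.mulVec] using congrFun ha' 1
  have b0 : A ⬝ᵥ b = 0 := by simpa [Matrix.mulVec] using congrFun hb' 0
  have b1 : B ⬝ᵥ b = 0 := by simpa [Matrix.mulVec] using congrFun hb' 1
  have b2 : b j = 0 := by simpa [Matrix.mulVec] using congrFun hb' 2
  refine ⟨a, b, a0, a1, b0, b1, fun C hCa hCb => ?_⟩
  have h3 : (Matrix.of ![A, B, C, Pi.single i 1] : Matrix (Fin 4) (Fin 4) k).det = 0 := by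
    refine Matrix.exists_mulVec_eq_zero_iff.1 ⟨b i • a - a i • b, fun h => ?_, ?_⟩
    · have h4 := congrFun h j
      simp [b2] at h4
      exact h4.elim hi hj
    · ext m
      fin_cases m
      · simp [Matrix.mulVec, dotProduct_sub, dotProduct_smul, a0, b0]
      · simp [Matrix.mulVec, dotProduct_sub, dotProduct_smul, a1, b1]
      · simp [Matrix.mulVec, dotProduct_sub, dotProduct_smul, hCa, hCb]
      · simp [Matrix.mulVec, dotProduct_sub, dotProduct_smul, mul_comm]
  obtain ⟨v, hv, hv'⟩ := Matrix.exists_vecMul_eq_zero_iff.2 h3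
  have h4 : ∀ m, v 0 * A m + v 1 * B m + v 2 * C m + v 3 * (Pi.single i 1 : Fin 4 → k) m = 0 := by
    intro m
    have := congrFun hv' m
    simpa [Matrix.vecMul, dotProduct, Fin.sum_univ_four] using this
  have h5 : v 3 * b i = 0 := by
    have h6 : ∑ m, (v 0 * A m + v 1 * B m + v 2 * C m + v 3 * (Pi.single i 1 : Fin 4 → k) m) * b m = 0 :=
      Finset.sum_eq_zero fun m _ => by rw [h4 m, zero_mul]
    have h7 : ∑ m, (v 0 * A m + v 1 * B m + v 2 * C m + v 3 * (Pi.single i 1 : Fin 4 → k) m) * b m =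
        v 0 * (A ⬝ᵥ b) + v 1 * (B ⬝ᵥ b) + v 2 * (C ⬝ᵥ b) + v 3 * ((Pi.single i 1 : Fin 4 → k) ⬝ᵥ b) := by
      simp only [dotProduct, Finset.mul_sum, ← Finset.sum_add_distrib]
      exact Finset.sum_congr rfl fun m _ => by ring
    rw [h7, b0, b1, hCb, single_one_dotProduct] at h6
    linear_combination h6
  have h6 : v 3 = 0 := (mul_eq_zero.1 h5).resolve_right hi
  refine ⟨v 0, v 1, v 2, fun ⟨w0, w1, w2⟩ => hv ?_, fun m => ?_⟩
  · ext i
    fin_cases i
    exacts [w0, w1, w2, h6]
  · have := h4 m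
    rw [h6] at this
    linear_combination this

end Pair

section Cubics

/-- A binary cubic form (with binomial coefficients). -/
noncomputable def cf (a : Fin 4 → k) : MvPolynomial (Fin 2) k :=
  C (a 0) * X 0 ^ 3 + C (3 * a 1) * (X 0 ^ 2 * X 1) + C (3 * a 2) * (X 0 * X 1 ^ 2) + C (a 3) * X 1 ^ 3

theorem isHomogeneous_cf (a : Fin 4 → k) : (cf a).IsHomogeneous 3 := by
  have h0 := isHomogeneous_X k (0 : Fin 2)
  have h1 := isHomogeneous_X k (1 : Fin 2)
  refine (((?_ : IsHomogeneous _ 3).add ?_).add ?_).add ?_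
  · simpa using (isHomogeneous_C (Fin 2) (a 0)).mul (h0.pow 3)
  · simpa using (isHomogeneous_C (Fin 2) (3 * a 1)).mul ((h0.pow 2).mul h1)
  · simpa using (isHomogeneous_C (Fin 2) (3 * a 2)).mul (h0.mul (h1.pow 2))
  · simpa using (isHomogeneous_C (Fin 2) (a 3)).mul (h1.pow 3)

/-- The four quartic forms. -/
noncomputable def W (a b : Fin 4 → k) : Fin 4 → MvPolynomial (Fin 2) k :=
  ![X 0 * cf a, X 1 * cf a, X 0 * cf b, X 1 * cf b]

/-- Their coefficients. -/
def Wc (a b : Fin 4 → k) : Fin 4 → Fin 5 → k :=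
  ![![a 0, 3 * a 1, 3 * a 2, a 3, 0], ![0, a 0, 3 * a 1, 3 * a 2, a 3],
    ![b 0, 3 * b 1, 3 * b 2, b 3, 0], ![0, b 0, 3 * b 1, 3 * b 2, b 3]]

/-- The quartic form with given coefficients. -/
noncomputable def qc (w : Fin 5 → k) : MvPolynomial (Fin 2) k :=
  ∑ m : Fin 5, C (w m) * (X 0 ^ (4 - (m : ℕ)) * X 1 ^ (m : ℕ))

theorem qc_Wc (a b : Fin 4 → k) (i : Fin 4) : qc (Wc a b i) = W a b i := by
  fin_cases i <;> simp [qc, Wc, W, cf, Fin.sum_univ_five] <;> ring

theorem qc_sum {ι : Type*} [Fintype ι] (x : ι → k) (w : ι → Fin 5 → k) :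
    qc (∑ i, x i • w i) = ∑ i, C (x i) * qc (w i) := by
  simp only [qc, Finset.sum_apply, Pi.smul_apply, smul_eq_mul, map_sum, map_mul, Finset.sum_mul, Finset.mul_sum]
  rw [Finset.sum_comm]
  exact Finset.sum_congr rfl fun i _ => Finset.sum_congr rfl fun m _ => by ring

theorem qc_zero : qc (0 : Fin 5 → k) = 0 := by simp [qc]

end Cubics

section Scroll

variable [IsAlgClosed k] [CharZero k] {c : Fin (4 + 1) → Fin 5 → k}

theorem exists_scroll (hs : Sep c) (hn : Nz c) (hdep : ¬ LinearIndependent k c) :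
    ∃ (a b : Fin 4 → k) (z v : Fin 4 → Fin 5 → k), IsRelPrime (cf a) (cf b) ∧ cf a ≠ 0 ∧ cf b ≠ 0 ∧
      (∀ i, eval₂ C (fun l => (bform (d := 4) c l).1) (lf (z i)) = W a b i) ∧
      ∀ l, (bform (d := 4) c l).1 = ∑ i, C (v i l) * W a b i := by
  obtain ⟨l, hl, hl0⟩ : ∃ l : Fin 5 → k, ∑ m, l m • c m = 0 ∧ l ≠ 0 := by
    rw [Fintype.linearIndependent_iff] at hdep
    push Not at hdep
    obtain ⟨l, hl, i, hi⟩ := hdep
    exact ⟨l, hl, fun h => hi (congrFun h i)⟩
  obtain ⟨a, b, a0, a1, b0, b1, hC⟩ := exists_pair ![l 0, 3 * l 1, 3 * l 2, l 3] ![l 1, 3 * l 2, 3 * l 3, l 4]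
  have hnz : ∀ x : Fin 2 → k, x ≠ 0 → eval x (cf a) = 0 → eval x (cf b) = 0 → False := by
    intro p hp ha hb
    obtain ⟨x, y, z, hxyz, hrel⟩ := hC ![p 0 ^ 3, 3 * p 0 ^ 2 * p 1, 3 * p 0 * p 1 ^ 2, p 1 ^ 3]
      (by
        simp [cf, dotProduct, Fin.sum_univ_four] at ha ⊢
        linear_combination ha)
      (by
        simp [cf, dotProduct, Fin.sum_univ_four] at hb ⊢
        linear_combination hb)
    have r0 := hrel 0
    have r1 := hrel 1
    have r2 := hrel 2
    have r3 := hrel 3
    simp at r0 r1 r2 r3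
    have r1' : x * l 1 + y * l 2 + z * (p 0 ^ 2 * p 1) = 0 := by linear_combination (1 / 3 : k) * r1
    have r2' : x * l 2 + y * l 3 + z * (p 0 * p 1 ^ 2) = 0 := by linear_combination (1 / 3 : k) * r2
    have h1 := no_quadric hs hn (sum_rel hl) (q0 := x * p 1) (q1 := y * p 1 - x * p 0) (q2 := - y * p 0) (by
      rintro ⟨h1, h2, h3⟩
      have hxy : x = 0 ∧ y = 0 := by
        by_cases hp1 : p 1 = 0
        · have hp0 : p 0 ≠ 0 := by
            intro h
            apply hp
            ext i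
            fin_cases i
            exacts [h, hp1]
          have hy : y = 0 := by simpa [hp0] using h3
          rw [hy, zero_mul, zero_sub, neg_eq_zero] at h2
          exact ⟨(mul_eq_zero.1 h2).resolve_right hp0, hy⟩
        · have hx : x = 0 := (mul_eq_zero.1 h1).resolve_right hp1
          rw [hx, zero_mul, sub_zero] at h2
          exact ⟨hx, (mul_eq_zero.1 h2).resolve_right hp1⟩
      obtain ⟨rfl, rfl⟩ := hxy
      have hz : z ≠ 0 := fun h => hxyz ⟨rfl, rfl, h⟩
      apply hp
      ext i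
      fin_cases i
      · simpa [hz] using r0
      · simpa [hz] using r3)
      (by linear_combination p 1 * r0 - p 0 * r1') (by linear_combination p 1 * r1' - p 0 * r2')
      (by linear_combination p 1 * r2' - p 0 * r3)
    apply hl0
    ext i
    fin_cases i
    exacts [h1.1, h1.2.1, h1.2.2.1, h1.2.2.2.1, h1.2.2.2.2]
  have hrp := K713.Binary.isRelPrime_of_no_common_zero (isHomogeneous_cf a) (isHomogeneous_cf b) hnz
  have hne : cf a ≠ 0 ∧ cf b ≠ 0 := by
    constructor
    · intro h
      obtain ⟨x, hx, hx0⟩ := K713.Binary.exists_zero (isHomogeneous_cf b) (by norm_num)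
      exact hnz x hx (by rw [h, map_zero]) hx0
    · intro h
      obtain ⟨x, hx, hx0⟩ := K713.Binary.exists_zero (isHomogeneous_cf a) (by norm_num)
      exact hnz x hx hx0 (by rw [h, map_zero])
  -- the four forms are independent
  have hWli : LinearIndependent k (Wc a b) := by
    rw [Fintype.linearIndependent_iff]
    intro x hx
    have h1 := qc_sum x (Wc a b)
    rw [hx, qc_zero] at h1
    simp only [qc_Wc, W, Fin.sum_univ_four, Matrix.cons_val_zero, Matrix.cons_val_one, Matrix.cons_val] at h1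
    have hlin : ∀ y z : k, (C y * X 0 + C z * X 1 : MvPolynomial (Fin 2) k).IsHomogeneous 1 := fun y z => by
      refine IsHomogeneous.add ?_ ?_
      · simpa using (isHomogeneous_C (Fin 2) y).mul (isHomogeneous_X k (0 : Fin 2))
      · simpa using (isHomogeneous_C (Fin 2) z).mul (isHomogeneous_X k (1 : Fin 2))
    have h2 := K713.Binary.eq_zero_of_syzygy (isHomogeneous_cf a) (isHomogeneous_cf b) (hlin (x 0) (x 1))
      (hlin (x 2) (x 3)) (by norm_num) hnz (by linear_combination -h1)
    have h3 : ∀ y z : k, (C y * X 0 + C z * X 1 : MvPolynomial (Fin 2) k) = 0 → y = 0 ∧ z = 0 := by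
      intro y z h
      exact ⟨by simpa using congrArg (eval (![1, 0] : Fin 2 → k)) h,
        by simpa using congrArg (eval (![0, 1] : Fin 2 → k)) h⟩
    have h4 := h3 _ _ h2.1
    have h5 := h3 _ _ h2.2
    intro i
    fin_cases i
    exacts [h4.1, h4.2, h5.1, h5.2]
  -- the functional
  have hWl : ∀ i, l ⬝ᵥ Wc a b i = 0 := by
    have e : ∀ (A a : Fin 4 → k), A ⬝ᵥ a = A 0 * a 0 + A 1 * a 1 + A 2 * a 2 + A 3 * a 3 := fun A a => by
      simp [dotProduct, Fin.sum_univ_four]
    rw [e] at a0 a1 b0 b1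
    simp only [Matrix.cons_val_zero, Matrix.cons_val_one, Matrix.cons_val] at a0 a1 b0 b1
    intro i
    fin_cases i
    · simp [Wc, dotProduct, Fin.sum_univ_five]; linear_combination a0
    · simp [Wc, dotProduct, Fin.sum_univ_five]; linear_combination a1
    · simp [Wc, dotProduct, Fin.sum_univ_five]; linear_combination b0
    · simp [Wc, dotProduct, Fin.sum_univ_five]; linear_combination b1
  -- every vector killed by `l` is a value
  have hsurj : ∀ w : Fin 5 → k, l ⬝ᵥ w = 0 → ∃ z : Fin 5 → k, (fun m => ∑ j, z j * c m j) = w := by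
    intro w hw
    let Z : (Fin 5 → k) →ₗ[k] (Fin 5 → k) := Matrix.mulVecLin (Matrix.of c)
    have hZ : ∀ z m, Z z m = ∑ j, z j * c m j := fun z m => by
      simp only [Z, Matrix.mulVecLin_apply, Matrix.mulVec, dotProduct, Matrix.of_apply]
      exact Finset.sum_congr rfl fun j _ => mul_comm _ _
    by_contra hcon
    have h1 : w ∉ LinearMap.range Z := by
      rintro ⟨z, hz⟩
      exact hcon ⟨z, by rw [← hz]; funext m; exact (hZ z m).symm⟩
    obtain ⟨g, hg, hg'⟩ := Submodule.exists_dual_map_eq_bot_of_notMem h1 inferInstance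
    have h2 : ∀ w : Fin 5 → k, g w = ∑ m, w m * g (Pi.single m 1) := by
      intro w
      conv_lhs => rw [← Finset.univ_sum_single w, map_sum]
      refine Finset.sum_congr rfl fun m _ => ?_
      have h3 : (Pi.single m (w m) : Fin 5 → k) = w m • Pi.single m 1 := by
        ext i
        simp [Pi.single_apply]
      rw [h3, map_smul, smul_eq_mul]
    have h3 : ∀ z, g (Z z) = 0 := fun z => by
      have : g (Z z) ∈ (LinearMap.range Z).map g := Submodule.mem_map_of_mem ⟨z, rfl⟩
      rw [hg', Submodule.mem_bot] at this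
      exact this
    obtain ⟨μ, hμ⟩ := unique hs hn (l' := fun m => g (Pi.single m 1)) hl0 hl (by
      funext j
      have h4 := h3 (Pi.single j 1)
      rw [h2] at h4
      rw [Finset.sum_apply, Pi.zero_apply, ← h4]
      refine Finset.sum_congr rfl fun m _ => ?_
      rw [hZ, Pi.smul_apply, smul_eq_mul, mul_comm]
      congr 1
      rw [Finset.sum_eq_single j]
      · rw [Pi.single_eq_same, one_mul]
      · intro i _ hi
        rw [Pi.single_eq_of_ne hi, zero_mul]
      · intro h; exact absurd (Finset.mem_univ _) h)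
    apply hg
    rw [h2]
    have h4 : ∀ m, g (Pi.single m 1) = μ * l m := fun m => congrFun hμ m
    simp only [h4]
    have h5 : ∑ m, w m * (μ * l m) = μ * (l ⬝ᵥ w) := by
      rw [dotProduct, Finset.mul_sum]
      exact Finset.sum_congr rfl fun m _ => by ring
    rw [h5, hw, mul_zero]
  -- the span of the four forms
  have hspan : ∀ w : Fin 5 → k, l ⬝ᵥ w = 0 → w ∈ Submodule.span k (Set.range (Wc a b)) := by
    let Λ : Module.Dual k (Fin 5 → k) := dotProductBilin k k l
    have hΛ : ∀ w, Λ w = l ⬝ᵥ w := fun w => rfl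
    have hΛ0 : Λ ≠ 0 := by
      intro h
      apply hl0
      ext m
      have h1 : Λ (Pi.single m 1) = 0 := by rw [h]; rfl
      rw [hΛ, dotProduct_single_one] at h1
      exact h1
    have h1 := Module.Dual.finrank_ker_add_one_of_ne_zero hΛ0
    rw [Module.finrank_fin_fun] at h1
    have h2 := finrank_span_eq_card hWli
    rw [Fintype.card_fin] at h2
    have h3 : Submodule.span k (Set.range (Wc a b)) ≤ LinearMap.ker Λ := by
      rw [Submodule.span_le]
      rintro _ ⟨i, rfl⟩
      exact hWl i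
    have h4 := Submodule.eq_of_le_of_finrank_eq h3 (by omega)
    intro w hw
    rw [h4]
    exact hw
  have hz : ∀ i, ∃ z : Fin 5 → k, (fun m => ∑ j, z j * c m j) = Wc a b i := fun i => hsurj _ (hWl i)
  choose z hz using hz
  have hv : ∀ j : Fin 5, ∃ v : Fin 4 → k, ∑ i, v i • Wc a b i = fun m => c m j := fun j =>
    (Submodule.mem_span_range_iff_exists_fun k).1 (hspan _ (by
      have := sum_rel hl j
      simp [dotProduct, Fin.sum_univ_five]
      linear_combination this))
  choose v hv using hv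
  refine ⟨a, b, z, fun i j => v j i, hrp, hne.1, hne.2, fun i => ?_, fun j => ?_⟩
  · rw [eval₂_lf, ← qc_Wc, ← hz i]
    rfl
  · have h1 : (bform (d := 4) c j).1 = qc (fun m => c m j) := rfl
    rw [h1, ← hv j, qc_sum]
    exact Finset.sum_congr rfl fun i _ => by rw [qc_Wc]

end Scroll

end K475.QuartAlg
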