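import Groth.Agent.Fano.K714.Comp

/-!
# Points of an affine variety outside a hypersurface, from first order data

* `dd x v p`: the derivative of the polynomial `p` at `x` in the direction `v`;
* `exists_ne`: if the equations `h` have independent gradients at `x` and `D` has nonzero derivative in some direction
  tangent to `V(h)` at `x`, then `D` is nonzero at some point of `V(h)`.
-/

set_option autoImplicit false
universe u

open MvPolynomial K714.Comp

namespace K475.Smoothing

variable {k : Type u} [Field k] {σ : Type} [Fintype σ] (x v : σ → k)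

/-- The directional derivative. -/
noncomputable def dd (p : MvPolynomial σ k) : k := ∑ l, v l * eval x (pderiv l p)

theorem dd_add (p q : MvPolynomial σ k) : dd x v (p + q) = dd x v p + dd x v q := by
  simp only [dd, map_add, mul_add, Finset.sum_add_distrib]

theorem dd_zero : dd x v 0 = 0 := by simp [dd]

theorem dd_mul (p q : MvPolynomial σ k) : dd x v (p * q) = dd x v p * eval x q + eval x p * dd x v q := by
  simp only [dd, pderiv_mul, map_add, map_mul, mul_add, Finset.sum_add_distrib, Finset.sum_mul, Finset.mul_sum]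
  congr 1
  · exact Finset.sum_congr rfl fun l _ => by ring
  · exact Finset.sum_congr rfl fun l _ => by ring

theorem dd_C (a : k) : dd x v (C a) = 0 := by simp [dd]

theorem dd_X (l : σ) : dd x v (X l) = v l := by
  classical
  simp only [dd, pderiv_X]
  rw [Finset.sum_eq_single l]
  · simp
  · intro m _ hm
    rw [Pi.single_eq_of_ne (Ne.symm hm)]
    simp
  · intro h; exact absurd (Finset.mem_univ _) h

theorem dd_sum {ι : Type*} (s : Finset ι) (p : ι → MvPolynomial σ k) :
    dd x v (∑ i ∈ s, p i) = ∑ i ∈ s, dd x v (p i) := by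
  classical
  induction s using Finset.induction_on with
  | empty => simp [dd_zero]
  | insert i s hi ih => rw [Finset.sum_insert hi, Finset.sum_insert hi, dd_add, ih]

theorem dd_C_mul (a : k) (p : MvPolynomial σ k) : dd x v (C a * p) = a * dd x v p := by
  rw [dd_mul, dd_C, zero_mul, zero_add, eval_C]

/-- Nonsingularity from dual directions. -/
theorem ns_of_dual {ι : Type} [Finite ι] [DecidableEq ι] {h : ι → MvPolynomial σ k} (h0 : ∀ i, eval x (h i) = 0)
    (hd : ∀ i, ∃ v : σ → k, ∀ j, dd x v (h j) = if j = i then 1 else 0) : NS h x := by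
  refine ⟨h0, ?_⟩
  have := Fintype.ofFinite ι
  rw [Fintype.linearIndependent_iff]
  intro c hc i
  obtain ⟨v, hv⟩ := hd i
  have h1 : ∑ j, c j * dd x v (h j) = 0 := by
    have h2 : ∀ j, c j * dd x v (h j) = ∑ l, v l * (c j * eval x (pderiv l (h j))) := fun j => by
      rw [dd, Finset.mul_sum]
      exact Finset.sum_congr rfl fun l _ => by ring
    rw [Finset.sum_congr rfl fun j _ => h2 j, Finset.sum_comm]
    refine Finset.sum_eq_zero fun l _ => ?_
    rw [← Finset.mul_sum]
    have h3 := congrFun hc l
    simp only [Finset.sum_apply, Pi.smul_apply, smul_eq_mul, Pi.zero_apply] at h3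
    rw [h3, mul_zero]
  rw [← h1, Finset.sum_eq_single i]
  · rw [hv, if_pos rfl, mul_one]
  · intro j _ hj
    rw [hv, if_neg hj, mul_zero]
  · intro h; exact absurd (Finset.mem_univ _) h

theorem exists_ne [IsAlgClosed k] {N : ℕ} {ι : Type} [Finite ι] {h : ι → MvPolynomial (Fin N) k} {x : Fin N → k}
    (hx : NS h x) {D : MvPolynomial (Fin N) k} (hD : ∃ v : Fin N → k, (∀ j, dd x v (h j) = 0) ∧ dd x v D ≠ 0) :
    ∃ y : Fin N → k, (∀ i, eval y (h i) = 0) ∧ eval y D ≠ 0 := by
  by_contra hcon
  push Not at hcon
  obtain ⟨v, hv, hvD⟩ := hD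
  obtain ⟨P, hP, hle, -, -, s, hs, hsP⟩ := exists_prime h hx
  have h1 : D ∈ (Ideal.span (Set.range h)).radical := by
    rw [← vanishingIdeal_zeroLocus_eq_radical (K := k), mem_vanishingIdeal_iff]
    intro y hy
    rw [aeval_eq_eval]
    refine hcon y fun i => ?_
    have h2 := hy (h i) (Ideal.subset_span ⟨i, rfl⟩)
    rw [aeval_eq_eval] at h2
    exact h2
  have h2 : D ∈ P := (hP.radical_le_iff.2 hle) h1
  have h3 := hsP D h2
  have := Fintype.ofFinite ι
  obtain ⟨c, hc⟩ := Ideal.mem_span_range_iff_exists_fun.1 h3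
  have h4 := congrArg (dd x v) hc
  rw [dd_sum, dd_mul] at h4
  have h5 : eval x D = 0 := hcon x hx.1
  rw [h5, mul_zero, zero_add, Finset.sum_eq_zero fun i _ => by rw [dd_mul, hx.1 i, hv i, mul_zero, mul_zero, add_zero]] at h4
  exact mul_ne_zero hs hvD h4.symm

end K475.Smoothing
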